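import Cfsg.Agent.Lib.Sp.Centre

/-!
Symplectic space in one dimension more: coordinates, embedding of the smaller group,
root elements at the first hyperbolic pair, generation by the slim generators.
-/

set_option autoImplicit false

namespace CfsgLib.Char.SpAmalgam

open Matrix CfsgLib.Sp

variable {F : Type*} [Field F] {n : ℕ}

/-- The symplectic group. -/
abbrev Spg (n : ℕ) (F : Type*) [Field F] := ↥(Matrix.symplecticGroup (Fin n) F)

/-- The space. -/
abbrev Vs (n : ℕ) (F : Type*) := Fin n ⊕ Fin n → F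

/-- Coordinates with respect to the first pair. -/
def vec (c : F) (y : Vs n F) (a : F) : Vs (n + 1) F :=
  Sum.elim (Fin.cons c fun i => y (.inl i)) (Fin.cons a fun i => y (.inr i))

/-- The middle part. -/
def mid (v : Vs (n + 1) F) : Vs n F :=
  Sum.elim (fun i => v (.inl i.succ)) (fun i => v (.inr i.succ))

/-- The middle embedding. -/
def em (y : Vs n F) : Vs (n + 1) F := vec 0 y 0

/-- First vector of the pair. -/
def e0 : Vs (n + 1) F := vec 1 0 0

/-- Second vector of the pair. -/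
def f0 : Vs (n + 1) F := vec 0 0 1

theorem vec_eta (v : Vs (n + 1) F) : vec (v (.inl 0)) (mid v) (v (.inr 0)) = v := by
  funext x
  rcases x with i | i <;> refine Fin.cases ?_ (fun k => ?_) i <;> simp [vec, mid]

theorem vec_inj {c c' a a' : F} {y y' : Vs n F} (h : vec c y a = vec c' y' a') :
    c = c' ∧ y = y' ∧ a = a' := by
  refine ⟨by simpa [vec] using congrFun h (.inl 0), ?_, by simpa [vec] using congrFun h (.inr 0)⟩
  funext x
  rcases x with i | i
  · simpa [vec] using congrFun h (.inl i.succ)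
  · simpa [vec] using congrFun h (.inr i.succ)

theorem vec_add (c c' a a' : F) (y y' : Vs n F) :
    vec c y a + vec c' y' a' = vec (c + c') (y + y') (a + a') := by
  funext x
  rcases x with i | i <;> refine Fin.cases ?_ (fun k => ?_) i <;> simp [vec]

theorem vec_smul (r c a : F) (y : Vs n F) : r • vec c y a = vec (r * c) (r • y) (r * a) := by
  funext x
  rcases x with i | i <;> refine Fin.cases ?_ (fun k => ?_) i <;> simp [vec]

theorem vec_zero : vec (0 : F) (0 : Vs n F) 0 = 0 := by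
  funext x
  rcases x with i | i <;> refine Fin.cases ?_ (fun k => ?_) i <;> simp [vec]

theorem e0_eq : (e0 : Vs (n + 1) F) = lv 0 := by
  funext x
  rcases x with i | i <;> refine Fin.cases ?_ (fun k => ?_) i <;>
    simp [e0, vec, lv, Fin.succ_ne_zero]

theorem f0_eq : (f0 : Vs (n + 1) F) = rv 0 := by
  funext x
  rcases x with i | i <;> refine Fin.cases ?_ (fun k => ?_) i <;>
    simp [f0, vec, rv, Fin.succ_ne_zero]

theorem em_lv (i : Fin n) : em (lv i : Vs n F) = lv i.succ := by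
  funext x
  rcases x with j | j <;> refine Fin.cases ?_ (fun k => ?_) j <;>
    simp [em, vec, lv, Pi.single_apply, Fin.succ_ne_zero, (Fin.succ_ne_zero _).symm]

theorem em_rv (i : Fin n) : em (rv i : Vs n F) = rv i.succ := by
  funext x
  rcases x with j | j <;> refine Fin.cases ?_ (fun k => ?_) j <;>
    simp [em, vec, rv, Pi.single_apply, Fin.succ_ne_zero, (Fin.succ_ne_zero _).symm]

theorem sf_zero_right (u : Vs n F) : sf u 0 = 0 := by
  rw [sf_eq]; simp

theorem sf_vec (c c' a a' : F) (y y' : Vs n F) :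
    sf (vec c y a) (vec c' y' a') = a * c' - c * a' + sf y y' := by
  rw [sf_eq, sf_eq, Fin.sum_univ_succ]
  simp [vec]

theorem sf_vec_e0 (c a : F) (y : Vs n F) : sf (vec c y a) e0 = a := by
  rw [e0, sf_vec, sf_zero_right]
  ring

theorem sf_vec_f0 (c a : F) (y : Vs n F) : sf (vec c y a) f0 = -c := by
  rw [f0, sf_vec, sf_zero_right]
  ring

theorem sf_vec_em (c a : F) (y z : Vs n F) : sf (vec c y a) (em z) = sf y z := by
  rw [em, sf_vec]
  ring

/-! ### Elements -/

/-- The long root element fixing the first vector. -/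
def zU (t : F) : Spg (n + 1) F := tv e0 t

/-- The opposite long root element. -/
def zD (r : F) : Spg (n + 1) F := tv f0 (-r)

/-- The short root elements. -/
def xU (z : Vs n F) : Spg (n + 1) F := kv e0 (em z) 1

@[simp] theorem zU_vec (t c a : F) (y : Vs n F) :
    (zU t).1 *ᵥ vec c y a = vec (c + t * a) y a := by
  rw [zU, tv_mulVec, sf_vec_e0, e0, vec_smul, vec_add]
  simp

@[simp] theorem zD_vec (r c a : F) (y : Vs n F) :
    (zD r).1 *ᵥ vec c y a = vec c y (a + r * c) := by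
  rw [zD, tv_mulVec, sf_vec_f0, f0, vec_smul, vec_add]
  simp

theorem sf_e0_em (z : Vs n F) : sf e0 (em z) = 0 := by
  rw [e0, sf_vec_em, sf_swap, sf_zero_right, neg_zero]

@[simp] theorem xU_vec (z : Vs n F) (c a : F) (y : Vs n F) :
    (xU z).1 *ᵥ vec c y a = vec (c + sf y z) (y + a • z) a := by
  rw [xU, kv_mulVec _ _ (sf_e0_em z), sf_vec_e0, sf_vec_em, e0, em, vec_smul, vec_smul, vec_add,
    vec_add]
  simp

theorem sp_ext_coord {A B : Spg (n + 1) F}
    (h : ∀ c a y, A.1 *ᵥ vec c y a = B.1 *ᵥ vec c y a) : A = B :=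
  sp_ext_vec fun u => by rw [← vec_eta u]; exact h _ _ _

/-- The linear map of the embedding. -/
def embLin (A : Spg n F) : Vs (n + 1) F →ₗ[F] Vs (n + 1) F where
  toFun v := vec (v (.inl 0)) (A.1 *ᵥ mid v) (v (.inr 0))
  map_add' u v := by
    rw [vec_add, ← Matrix.mulVec_add]
    congr 2
    funext x; rcases x with i | i <;> simp [mid]
  map_smul' r v := by
    simp only [RingHom.id_apply]
    rw [vec_smul, ← Matrix.mulVec_smul]
    congr 2
    funext x; rcases x with i | i <;> simp [mid]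

theorem mid_vec (c a : F) (y : Vs n F) : mid (vec c y a) = y := by
  funext x; rcases x with i | i <;> simp [mid, vec]

/-- The smaller group inside the larger one. -/
def embFun (A : Spg n F) : Spg (n + 1) F :=
  ⟨LinearMap.toMatrix' (embLin A), mem_sp_iff.2 fun u v => by
    simp only [LinearMap.toMatrix'_mulVec, embLin, LinearMap.coe_mk, AddHom.coe_mk]
    rw [sf_vec, sf_sp]
    conv_rhs => rw [← vec_eta u, ← vec_eta v, sf_vec]⟩

theorem embFun_vec (A : Spg n F) (c a : F) (y : Vs n F) :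
    (embFun A).1 *ᵥ vec c y a = vec c (A.1 *ᵥ y) a := by
  show LinearMap.toMatrix' (embLin A) *ᵥ _ = _
  rw [LinearMap.toMatrix'_mulVec]
  show vec _ (A.1 *ᵥ mid (vec c y a)) _ = _
  rw [mid_vec]
  simp [vec]

/-- The embedding. -/
def emb : Spg n F →* Spg (n + 1) F where
  toFun := embFun
  map_one' := sp_ext_coord fun c a y => by rw [embFun_vec, sp_one_mulVec, sp_one_mulVec]
  map_mul' A B := sp_ext_coord fun c a y => by
    rw [embFun_vec, sp_mul_mulVec, sp_mul_mulVec, embFun_vec, embFun_vec]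

@[simp] theorem emb_vec (A : Spg n F) (c a : F) (y : Vs n F) :
    (emb A).1 *ᵥ vec c y a = vec c (A.1 *ᵥ y) a := embFun_vec A c a y

theorem emb_injective : Function.Injective (emb : Spg n F → Spg (n + 1) F) := by
  intro A B h
  refine sp_ext_vec fun u => ?_
  have h' := congrArg (fun M : Spg (n + 1) F => M.1 *ᵥ vec 0 u 0) h
  simp only [emb_vec] at h'
  exact (vec_inj h').2.1

theorem exists_emb_of_fix {A : Spg (n + 1) F} (he : A.1 *ᵥ e0 = e0) (hf : A.1 *ᵥ f0 = f0) :
    ∃ B, emb B = A := by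
  have hem : ∀ y : Vs n F, A.1 *ᵥ em y = em (mid (A.1 *ᵥ em y)) := by
    intro y
    have h1 := sf_sp A (em y) e0
    have h2 := sf_sp A (em y) f0
    rw [he] at h1
    rw [hf] at h2
    rw [← vec_eta (A.1 *ᵥ em y), sf_vec_e0, em, sf_vec_e0] at h1
    rw [← vec_eta (A.1 *ᵥ em y), sf_vec_f0, em, sf_vec_f0, neg_inj] at h2
    conv_lhs => rw [← vec_eta (A.1 *ᵥ em y)]
    show vec _ _ _ = vec 0 _ 0
    rw [em, h1, h2]
  let L : Vs n F →ₗ[F] Vs n F :=
    { toFun := fun y => mid (A.1 *ᵥ em y)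
      map_add' := fun u v => by
        rw [em, em, em, ← mid_vec (0 : F) 0 (mid (A.1 *ᵥ vec 0 u 0) + mid (A.1 *ᵥ vec 0 v 0)),
          show vec 0 (u + v) (0 : F) = vec 0 u 0 + vec 0 v 0 by rw [vec_add]; simp,
          Matrix.mulVec_add]
        funext x; rcases x with i | i <;> simp [mid, vec]
      map_smul' := fun r u => by
        simp only [RingHom.id_apply]
        rw [em, em, show vec 0 (r • u) (0 : F) = r • vec 0 u 0 by rw [vec_smul]; simp,
          Matrix.mulVec_smul]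
        funext x; rcases x with i | i <;> simp [mid] }
  refine ⟨⟨LinearMap.toMatrix' L, mem_sp_iff.2 fun u v => ?_⟩, ?_⟩
  · have h := sf_sp A (em u) (em v)
    rw [hem u, hem v] at h
    simp only [em, sf_vec, mul_zero, sub_zero, zero_add, zero_mul] at h
    simp only [LinearMap.toMatrix'_mulVec]
    exact h
  · refine sp_ext_coord fun c a y => ?_
    rw [emb_vec, LinearMap.toMatrix'_mulVec]
    have h3 : vec c y a = c • e0 + em y + a • f0 := by
      rw [e0, em, f0, vec_smul, vec_smul, vec_add, vec_add]; simp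
    rw [h3, Matrix.mulVec_add, Matrix.mulVec_add, Matrix.mulVec_smul, Matrix.mulVec_smul, he, hf,
      hem]
    show vec c (mid (A.1 *ᵥ em y)) a = _
    simp [e0, em, f0, vec_smul, vec_add]

theorem exists_stab_form {A : Spg (n + 1) F} (he : A.1 *ᵥ e0 = e0) :
    ∃ t z B, A = zU t * xU z * emb B := by
  set v := A.1 *ᵥ f0 with hv
  have ha : v (.inr 0) = 1 := by
    have h := sf_sp A f0 e0
    rw [he, ← hv] at h
    conv_lhs at h => rw [← vec_eta v, sf_vec_e0]
    rw [f0, sf_vec_e0] at h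
    exact h
  refine ⟨v (.inl 0), mid v, ?_⟩
  set P : Spg (n + 1) F := zU (v (.inl 0)) * xU (mid v) with hP
  have hPe : P.1 *ᵥ e0 = e0 := by
    rw [hP, sp_mul_mulVec, e0, xU_vec, zU_vec]
    simp [sf_swap (0 : Vs n F), sf_zero_right]
  have hPf : P.1 *ᵥ f0 = v := by
    rw [hP, sp_mul_mulVec, f0, xU_vec, zU_vec]
    conv_rhs => rw [← vec_eta v, ha]
    simp [sf_swap (0 : Vs n F), sf_zero_right]
  obtain ⟨B, hB⟩ := exists_emb_of_fix (A := P⁻¹ * A)
    (by rw [sp_mul_mulVec, he]; conv_lhs => rw [← hPe, sp_inv_mulVec])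
    (by rw [sp_mul_mulVec, ← hv, ← hPf, sp_inv_mulVec])
  exact ⟨B, by rw [hB, ← mul_assoc, mul_inv_cancel, one_mul]⟩

theorem xU_conj (g : Spg n F) (z : Vs n F) :
    emb g * xU z * (emb g)⁻¹ = xU (g.1 *ᵥ z) := by
  rw [xU, kv_conj _ _ _ (sf_e0_em z), xU, e0, emb_vec, em, emb_vec, Matrix.mulVec_zero]
  rfl

theorem xU_zero : xU (0 : Vs n F) = 1 :=
  sp_ext_coord fun c a y => by rw [xU_vec, sp_one_mulVec, sf_zero_right]; simp

theorem xU_mul (z z' : Vs n F) :
    xU z * xU z' = zU (sf z' z) * xU (z + z') := by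
  refine sp_ext_coord fun c a y => ?_
  simp only [sp_mul_mulVec, xU_vec, zU_vec, sf_add_left, sf_add_right, sf_smul_left]
  refine congrArg₂ (fun c y => vec c y a) ?_ ?_
  · ring
  · module

/-! ### The slim generators -/

/-- Elements acting on a single hyperbolic pair. -/
def InS (j : Fin n) (A : Spg n F) : Prop :=
  ∀ k, k ≠ j → A.1 *ᵥ lv k = lv k ∧ A.1 *ᵥ rv k = rv k

/-- Unipotent elements on two adjacent pairs. -/
def InM (i : ℕ) (A : Spg n F) : Prop :=
  (∀ k, A.1 *ᵥ lv k = lv k) ∧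
    ∀ k : Fin n, (k : ℕ) ≠ i → (k : ℕ) ≠ i + 1 → A.1 *ᵥ rv k = rv k

theorem inS_zU (t : F) : InS (0 : Fin (n + 1)) (zU t) := by
  intro k hk
  obtain ⟨k, rfl⟩ := Fin.exists_succ_eq_of_ne_zero hk
  simp [← em_lv, ← em_rv, em]

theorem inS_zD (r : F) : InS (0 : Fin (n + 1)) (zD r) := by
  intro k hk
  obtain ⟨k, rfl⟩ := Fin.exists_succ_eq_of_ne_zero hk
  simp [← em_lv, ← em_rv, em]

theorem inM_zU (t : F) : InM 0 (zU t : Spg (n + 1) F) := by
  refine ⟨fun k => ?_, fun k hk _ => (inS_zU t k (fun h => hk (by rw [h]; rfl))).2⟩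
  refine Fin.cases ?_ (fun k => ?_) k
  · rw [← e0_eq, e0, zU_vec]; simp
  · exact (inS_zU t k.succ (Fin.succ_ne_zero k)).1

theorem inM_xU (c : F) : InM 0 (xU (c • lv 0) : Spg (n + 1 + 1) F) := by
  refine ⟨fun k => ?_, fun k hk hk1 => ?_⟩
  · refine Fin.cases ?_ (fun k => ?_) k
    · rw [← e0_eq (n := n + 1), e0, xU_vec, sf_swap, sf_zero_right]; simp
    · rw [← em_lv, em, xU_vec, sf_smul_right, sf_lv]; simp [lv]
  · have h0 : k ≠ 0 := fun h => hk (by rw [h]; rfl)
    obtain ⟨k, rfl⟩ := Fin.exists_succ_eq_of_ne_zero h0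
    have hk0 : k ≠ 0 := fun h => hk1 (by rw [h]; rfl)
    rw [← em_rv, em, xU_vec, sf_smul_right, sf_lv]
    simp [rv, Pi.single_apply, Ne.symm hk0]

theorem inS_emb {j : Fin n} {B : Spg n F} : InS j.succ (emb B) ↔ InS j B := by
  constructor
  · intro h k hk
    obtain ⟨h1, h2⟩ := h k.succ (fun e => hk (Fin.succ_injective _ e))
    rw [← em_lv, em, emb_vec] at h1
    rw [← em_rv, em, emb_vec] at h2
    exact ⟨(vec_inj h1).2.1, (vec_inj h2).2.1⟩
  · intro h k hk
    refine Fin.cases ?_ (fun k hk => ?_) k hk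
    · intro _
      rw [← e0_eq, ← f0_eq, e0, f0, emb_vec, emb_vec, Matrix.mulVec_zero]
      exact ⟨rfl, rfl⟩
    · obtain ⟨h1, h2⟩ := h k (fun e => hk (by rw [e]))
      rw [← em_lv, ← em_rv, em, em, emb_vec, emb_vec, h1, h2]
      exact ⟨rfl, rfl⟩

theorem inM_emb {i : ℕ} {B : Spg n F} : InM (i + 1) (emb B) ↔ InM i B := by
  constructor
  · rintro ⟨h1, h2⟩
    refine ⟨fun k => ?_, fun k hk hk1 => ?_⟩
    · have h := h1 k.succ
      rw [← em_lv, em, emb_vec] at h
      exact (vec_inj h).2.1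
    · have h := h2 k.succ (by simp [hk]) (by simp [hk1])
      rw [← em_rv, em, emb_vec] at h
      exact (vec_inj h).2.1
  · rintro ⟨h1, h2⟩
    refine ⟨fun k => ?_, fun k hk hk1 => ?_⟩
    · refine Fin.cases ?_ (fun k => ?_) k
      · rw [← e0_eq, e0, emb_vec, Matrix.mulVec_zero]
      · rw [← em_lv, em, emb_vec, h1]
    · revert hk hk1
      refine Fin.cases ?_ (fun k => ?_) k
      · intro _ _
        rw [← f0_eq, f0, emb_vec, Matrix.mulVec_zero]
      · intro hk hk1
        rw [← em_rv, em, emb_vec, h2 k (by simpa using hk) (by simpa using hk1)]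

theorem exists_emb_inS {j : Fin n} {A : Spg (n + 1) F} (h : InS j.succ A) :
    ∃ B, InS j B ∧ emb B = A := by
  obtain ⟨h1, h2⟩ := h 0 (Fin.succ_ne_zero j).symm
  obtain ⟨B, rfl⟩ := exists_emb_of_fix (by rwa [← e0_eq] at h1) (by rwa [← f0_eq] at h2)
  exact ⟨B, inS_emb.1 h, rfl⟩

theorem exists_emb_inM {i : ℕ} {A : Spg (n + 1) F} (h : InM (i + 1) A) :
    ∃ B, InM i B ∧ emb B = A := by
  have h1 := h.1 0
  have h2 := h.2 0 (by simp) (by simp)
  obtain ⟨B, rfl⟩ := exists_emb_of_fix (by rwa [← e0_eq] at h1) (by rwa [← f0_eq] at h2)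
  exact ⟨B, inM_emb.1 h, rfl⟩

/-- The slim generators. -/
def gens (n : ℕ) (F : Type*) [Field F] : Set (Spg n F) :=
  {A | (∃ j, InS j A) ∨ ∃ i, i + 1 < n ∧ InM i A}

theorem emb_gens {B : Spg n F} (h : B ∈ gens n F) : emb B ∈ gens (n + 1) F := by
  rcases h with ⟨j, hj⟩ | ⟨i, hi, hi'⟩
  · exact Or.inl ⟨j.succ, inS_emb.2 hj⟩
  · exact Or.inr ⟨i + 1, by omega, inM_emb.2 hi'⟩

theorem xU_mem_of {G : Subgroup (Spg (n + 1) F)} (hG : ∀ B, emb B ∈ G)
    (hM : ∀ A, 1 < n + 1 → InM 0 A → A ∈ G) (z : Vs n F) : xU z ∈ G := by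
  by_cases hz : z = 0
  · rw [hz, xU_zero]; exact G.one_mem
  cases n with
  | zero => exact absurd (funext fun x => Fin.elim0 (x.elim id id)) hz
  | succ k =>
    obtain ⟨g, hg⟩ := exists_move (lv_ne_zero (F := F) (0 : Fin (k + 1))) hz
    rw [← hg, ← xU_conj]
    refine G.mul_mem (G.mul_mem (hG g) (hM _ (by omega) ?_)) (G.inv_mem (hG g))
    simpa using inM_xU (n := k) (1 : F)

theorem exists_good_move {c a : F} (h : c ≠ 0 ∨ a ≠ 0) (G : Subgroup (Spg (n + 1) F))
    (hU : ∀ t, zU t ∈ G) (hD : ∀ r, zD r ∈ G) :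
    ∃ s ∈ G, s.1 *ᵥ (f0 : Vs (n + 1) F) = vec c 0 a ∧ ∀ y, s.1 *ᵥ em y = em y := by
  by_cases hc : c = 0
  · have ha : a ≠ 0 := by simpa [hc] using h
    refine ⟨zU (-a⁻¹) * (zD (a - 1) * zU 1), G.mul_mem (hU _) (G.mul_mem (hD _) (hU _)), ?_,
      fun y => by simp only [sp_mul_mulVec, em, zU_vec, zD_vec, mul_zero, add_zero]⟩
    rw [sp_mul_mulVec, sp_mul_mulVec, f0, zU_vec, zD_vec, zU_vec, hc]
    congr 1
    · field_simp; ring
    · ring
  · refine ⟨zD ((a - 1) / c) * zU c, G.mul_mem (hD _) (hU _), ?_,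
      fun y => by simp only [sp_mul_mulVec, em, zU_vec, zD_vec, mul_zero, add_zero]⟩
    rw [sp_mul_mulVec, f0, zU_vec, zD_vec]
    congr 1
    · ring
    · field_simp; ring

theorem exists_move_mem {G : Subgroup (Spg (n + 1) F)} (hU : ∀ t, zU t ∈ G) (hD : ∀ r, zD r ∈ G)
    (hX : ∀ z, xU z ∈ G) {v : Vs (n + 1) F} (hv : v ≠ 0) :
    ∃ A ∈ G, A.1 *ᵥ (f0 : Vs (n + 1) F) = v := by
  have good : ∀ c a y, (c ≠ 0 ∨ a ≠ 0) → ∃ A ∈ G, A.1 *ᵥ (f0 : Vs (n + 1) F) = vec c y a := by
    intro c a y h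
    obtain ⟨s, hs, hsv, hsy⟩ := exists_good_move h G hU hD
    refine ⟨s * xU y, G.mul_mem hs (hX y), ?_⟩
    have h1 : (xU y).1 *ᵥ (f0 : Vs (n + 1) F) = f0 + em y := by
      rw [f0, xU_vec, em, vec_add, sf_swap (0 : Vs n F), sf_zero_right]; simp
    rw [sp_mul_mulVec, h1, Matrix.mulVec_add, hsv, hsy, em, vec_add]
    simp
  rw [← vec_eta v]
  by_cases h : v (.inl 0) ≠ 0 ∨ v (.inr 0) ≠ 0
  · exact good _ _ _ h
  push_neg at h
  have hy : mid v ≠ 0 := by
    intro hy
    apply hv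
    rw [← vec_eta v, h.1, h.2, hy, vec_zero]
  obtain ⟨z, hz⟩ := exists_sf_eq_one hy
  obtain ⟨A, hA, hAv⟩ := good (-sf (mid v) z) 0 (mid v) (Or.inl (by
    rw [sf_swap, hz, neg_neg]; exact one_ne_zero))
  refine ⟨xU z * A, G.mul_mem (hX z) hA, ?_⟩
  rw [sp_mul_mulVec, hAv, xU_vec, h.1, h.2]
  simp

/-- The slim generators generate. -/
theorem closure_gens : ∀ n : ℕ, Subgroup.closure (gens n F) = ⊤ := by
  intro n
  induction n with
  | zero =>
    refine eq_top_iff.2 fun A _ => ?_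
    have : A = 1 := Subtype.ext (Matrix.ext fun i => Fin.elim0 (i.elim id id))
    rw [this]; exact Subgroup.one_mem _
  | succ n ih =>
    have hemb : ∀ B, emb B ∈ Subgroup.closure (gens (n + 1) F) := by
      intro B
      have hB : B ∈ (Subgroup.closure (gens (n + 1) F)).comap emb := by
        have hle : Subgroup.closure (gens n F) ≤ (Subgroup.closure (gens (n + 1) F)).comap emb :=
          (Subgroup.closure_le _).2 fun B hB => Subgroup.subset_closure (emb_gens hB)
        exact hle (by rw [ih]; trivial)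
      exact hB
    have hU : ∀ t, zU t ∈ Subgroup.closure (gens (n + 1) F) := fun t =>
      Subgroup.subset_closure (Or.inl ⟨0, inS_zU t⟩)
    have hD : ∀ r, zD r ∈ Subgroup.closure (gens (n + 1) F) := fun r =>
      Subgroup.subset_closure (Or.inl ⟨0, inS_zD r⟩)
    have hX : ∀ z, xU z ∈ Subgroup.closure (gens (n + 1) F) :=
      xU_mem_of hemb fun A h1 h2 => Subgroup.subset_closure (Or.inr ⟨0, by omega, h2⟩)
    refine eq_top_iff.2 fun g _ => ?_
    have he0 : (e0 : Vs (n + 1) F) ≠ 0 := by rw [e0_eq]; exact lv_ne_zero 0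
    obtain ⟨A, hA, hAv⟩ := exists_move_mem hU hD hX (v := g.1 *ᵥ e0) (sp_mulVec_ne_zero g he0)
    obtain ⟨C, hC, hCv⟩ := exists_move_mem hU hD hX (v := (e0 : Vs (n + 1) F)) he0
    obtain ⟨t, z, B, hB⟩ := exists_stab_form (A := C * (A⁻¹ * g)) (by
      rw [sp_mul_mulVec, sp_mul_mulVec, ← hAv, sp_inv_mulVec, hCv])
    have h : g = A * C⁻¹ * (zU t * xU z * emb B) := by rw [← hB]; group
    rw [h]
    exact mul_mem (mul_mem hA (inv_mem hC)) (mul_mem (mul_mem (hU t) (hX z)) (hemb B))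

/-- The stabiliser of the first vector is generated by slim generators fixing it. -/
theorem stab_le_closure {A : Spg (n + 1) F} (he : A.1 *ᵥ e0 = e0) :
    A ∈ Subgroup.closure {B | B ∈ gens (n + 1) F ∧ B.1 *ᵥ e0 = e0} := by
  obtain ⟨t, z, B, rfl⟩ := exists_stab_form he
  have hfix : ∀ B : Spg n F, (emb B).1 *ᵥ (e0 : Vs (n + 1) F) = e0 := fun B => by
    rw [e0, emb_vec, Matrix.mulVec_zero]
  set G := Subgroup.closure {B | B ∈ gens (n + 1) F ∧ B.1 *ᵥ (e0 : Vs (n + 1) F) = e0}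
  have hemb : ∀ B, emb B ∈ G := by
    intro B
    have hle : Subgroup.closure (gens n F) ≤ G.comap emb :=
      (Subgroup.closure_le _).2 fun B hB => Subgroup.subset_closure ⟨emb_gens hB, hfix B⟩
    exact hle (by rw [closure_gens]; trivial)
  have hU : zU t ∈ G := Subgroup.subset_closure ⟨Or.inl ⟨0, inS_zU t⟩, by rw [e0, zU_vec]; simp⟩
  refine mul_mem (mul_mem hU ?_) (hemb B)
  refine xU_mem_of hemb (fun A h1 h2 => Subgroup.subset_closure ⟨Or.inr ⟨0, by omega, h2⟩, ?_⟩) z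
  rw [e0_eq]
  exact h2.1 0

end CfsgLib.Char.SpAmalgam
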