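import Cfsg.Agent.Lib.Char.SpAmalgam.Model

/-!
Slim amalgams over the symplectic group: the first pair and adjacent group, root elements.
-/

set_option autoImplicit false

namespace CfsgLib.Char.SpAmalgam

open Matrix CfsgLib.Sp

variable {F : Type*} [Field F]

/-- A group over `Sp` with lifts of the slim generators, consistent in pairs. -/
structure Amal (n : ℕ) {Γ : Type*} [Group Γ] (π : Γ →* Spg n F) (S : Fin n → Subgroup Γ)
    (M : ℕ → Subgroup Γ) : Prop where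
  mapS : ∀ j A, InS j A ↔ A ∈ (S j).map π
  mapM : ∀ i, i + 1 < n → ∀ A, InM i A ↔ A ∈ (M i).map π
  injSS : ∀ j l, Set.InjOn π ↑(S j ⊔ S l)
  injMS : ∀ i j, i + 1 < n → Set.InjOn π ↑(M i ⊔ S j)
  injMM : ∀ i i', i + 1 < n → i' + 1 < n → Set.InjOn π ↑(M i ⊔ M i')
  gen : Subgroup.closure {x | (∃ j, x ∈ S j) ∨ ∃ i, i + 1 < n ∧ x ∈ M i} = ⊤

theorem InS.mul {n : ℕ} {j : Fin n} {A B : Spg n F} (hA : InS j A) (hB : InS j B) :
    InS j (A * B) := fun k hk => by
  rw [sp_mul_mulVec, sp_mul_mulVec, (hB k hk).1, (hB k hk).2]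
  exact hA k hk

theorem InS.inv {n : ℕ} {j : Fin n} {A : Spg n F} (hA : InS j A) : InS j A⁻¹ := fun k hk => by
  constructor
  · conv_lhs => rw [← (hA k hk).1, sp_inv_mulVec]
  · conv_lhs => rw [← (hA k hk).2, sp_inv_mulVec]

theorem InS.one {n : ℕ} (j : Fin n) : InS j (1 : Spg n F) := fun k _ =>
  ⟨sp_one_mulVec _, sp_one_mulVec _⟩

theorem InM.mul {n i : ℕ} {A B : Spg n F} (hA : InM i A) (hB : InM i B) : InM i (A * B) :=
  ⟨fun k => by rw [sp_mul_mulVec, hB.1 k, hA.1 k],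
    fun k h h' => by rw [sp_mul_mulVec, hB.2 k h h', hA.2 k h h']⟩

theorem InM.inv {n i : ℕ} {A : Spg n F} (hA : InM i A) : InM i A⁻¹ :=
  ⟨fun k => by conv_lhs => rw [← hA.1 k, sp_inv_mulVec],
    fun k h h' => by conv_lhs => rw [← hA.2 k h h', sp_inv_mulVec]⟩

/-- The group on the first pair. -/
def pair0 (n : ℕ) (F : Type*) [Field F] : Subgroup (Spg (n + 1) F) :=
  Subgroup.closure {A | (∃ t, A = zU t) ∨ ∃ r, A = zD r}

theorem inS_of_pair0 {n : ℕ} {A : Spg (n + 1) F} (h : A ∈ pair0 n F) : InS 0 A := by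
  induction h using Subgroup.closure_induction with
  | mem x hx =>
    rcases hx with ⟨t, rfl⟩ | ⟨r, rfl⟩
    exacts [inS_zU t, inS_zD r]
  | one => exact InS.one 0
  | mul x y _ _ hx hy => exact hx.mul hy
  | inv x _ hx => exact hx.inv

theorem zU_mem_pair0 {n : ℕ} (t : F) : zU t ∈ pair0 n F := Subgroup.subset_closure (Or.inl ⟨t, rfl⟩)

theorem zD_mem_pair0 {n : ℕ} (r : F) : zD r ∈ pair0 n F := Subgroup.subset_closure (Or.inr ⟨r, rfl⟩)

/-- The Weyl element of the first pair. -/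
def wU {n : ℕ} : Spg (n + 1) F := zU (-1) * zD 1 * zU (-1)

@[simp] theorem wU_vec {n : ℕ} (c a : F) (y : Vs n F) :
    (wU : Spg (n + 1) F).1 *ᵥ vec c y a = vec (-a) y c := by
  rw [wU, sp_mul_mulVec, sp_mul_mulVec, zU_vec, zD_vec, zU_vec]
  congr 1 <;> ring

theorem wU_mem_pair0 {n : ℕ} : (wU : Spg (n + 1) F) ∈ pair0 n F :=
  mul_mem (mul_mem (zU_mem_pair0 _) (zD_mem_pair0 _)) (zU_mem_pair0 _)

theorem exists_pair0_e0 {n : ℕ} {c a : F} (h : c ≠ 0 ∨ a ≠ 0) :
    ∃ g ∈ pair0 n F, g.1 *ᵥ (e0 : Vs (n + 1) F) = vec c 0 a := by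
  obtain ⟨s, hs, hsv, -⟩ := exists_good_move h (pair0 n F) zU_mem_pair0 zD_mem_pair0
  refine ⟨s * wU, mul_mem hs wU_mem_pair0, ?_⟩
  rw [sp_mul_mulVec, e0, wU_vec, neg_zero]
  exact hsv

theorem fix_em_of_inS {n : ℕ} {A : Spg (n + 1) F} (h : InS 0 A) (y : Vs n F) :
    A.1 *ᵥ em y = em y := by
  let E : Vs n F →ₗ[F] Vs (n + 1) F :=
    { toFun := fun y => em y
      map_add' := fun u v => by rw [em, em, em, vec_add]; simp
      map_smul' := fun r u => by rw [em, em, RingHom.id_apply, vec_smul]; simp }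
  have hE : (Matrix.mulVecLin A.1).comp E = E := by
    refine (Pi.basisFun F (Fin n ⊕ Fin n)).ext fun x => ?_
    rw [Pi.basisFun_apply]
    show A.1 *ᵥ em (Pi.single x 1) = em (Pi.single x 1)
    rcases x with i | i
    · rw [em_lv]; exact (h i.succ (Fin.succ_ne_zero i)).1
    · rw [em_rv]; exact (h i.succ (Fin.succ_ne_zero i)).2
  exact LinearMap.congr_fun hE y

theorem mid_eq_zero_of_inS {n : ℕ} {A : Spg (n + 1) F} (h : InS 0 A) (c a : F) :
    mid (A.1 *ᵥ vec c 0 a) = 0 := by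
  refine eq_zero_of_sf fun y => ?_
  have h1 := sf_sp A (vec c 0 a) (em y)
  rw [fix_em_of_inS h] at h1
  conv_lhs at h1 => rw [← vec_eta (A.1 *ᵥ vec c 0 a)]
  rw [sf_vec_em, sf_vec_em, sf_swap 0, sf_zero_right, neg_zero] at h1
  exact h1

theorem exists_zD_of_fix {n : ℕ} {A : Spg (n + 1) F} (h : InS 0 A) (hf : A.1 *ᵥ f0 = f0) :
    ∃ r, A = zD r := by
  set v := A.1 *ᵥ e0 with hv
  have h1 : v (.inl 0) = 1 := by
    have h' := sf_sp A e0 f0
    rw [hf, ← hv] at h'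
    conv_lhs at h' => rw [← vec_eta v, sf_vec_f0]
    rw [e0, sf_vec_f0, neg_inj] at h'
    exact h'
  have h2 : mid v = 0 := mid_eq_zero_of_inS h 1 0
  refine ⟨v (.inr 0), sp_ext_coord fun c a y => ?_⟩
  have h3 : vec c y a = c • e0 + em y + a • f0 := by simp [e0, em, f0, vec_smul, vec_add]
  rw [h3, Matrix.mulVec_add, Matrix.mulVec_add, Matrix.mulVec_smul, Matrix.mulVec_smul, hf,
    fix_em_of_inS h, ← hv, ← h3, zD_vec]
  conv_lhs => rw [← vec_eta v, h1, h2]
  simp only [em, f0, vec_smul, vec_add, mul_one, mul_zero, smul_zero, add_zero, zero_add,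
    mul_comm c, one_mul]
  rw [add_comm a]

theorem mem_pair0_of_inS {n : ℕ} {A : Spg (n + 1) F} (h : InS 0 A) : A ∈ pair0 n F := by
  set v := A.1 *ᵥ f0 with hv
  have hmid : mid v = 0 := mid_eq_zero_of_inS h 0 1
  have hne : v (.inl 0) ≠ 0 ∨ v (.inr 0) ≠ 0 := by
    by_contra hc
    push_neg at hc
    have : v = 0 := by rw [← vec_eta v, hc.1, hc.2, hmid, vec_zero]
    exact sp_mulVec_ne_zero A (by rw [f0_eq]; exact rv_ne_zero 0) this
  obtain ⟨s, hs, hsv, -⟩ := exists_good_move hne (pair0 n F) zU_mem_pair0 zD_mem_pair0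
  obtain ⟨r, hr⟩ := exists_zD_of_fix ((inS_of_pair0 hs).inv.mul h) (by
    rw [sp_mul_mulVec, ← hv]
    conv_lhs => rw [← vec_eta v, hmid, ← hsv, sp_inv_mulVec])
  have : A = s * zD r := by rw [← hr, mul_inv_cancel_left]
  rw [this]
  exact mul_mem hs (zD_mem_pair0 r)

theorem pair0_commute_emb {n : ℕ} {A : Spg (n + 1) F} (h : InS 0 A) (B : Spg n F) :
    Commute A (emb B) := by
  have hA := mem_pair0_of_inS h
  induction hA using Subgroup.closure_induction with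
  | mem x hx =>
    refine sp_ext_coord fun c a y => ?_
    rcases hx with ⟨t, rfl⟩ | ⟨r, rfl⟩ <;> simp only [sp_mul_mulVec, emb_vec, zU_vec, zD_vec]
  | one => exact Commute.one_left _
  | mul x y hx' hy' hx hy =>
    exact (hx (inS_of_pair0 hx')).mul_left (hy (inS_of_pair0 hy'))
  | inv x hx' hx => exact (hx (inS_of_pair0 hx')).inv_left

theorem emb_commute_xU {n : ℕ} {g : Spg n F} {z : Vs n F} (h : g.1 *ᵥ z = z) :
    Commute (emb g) (xU z) := by
  have h' := xU_conj g z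
  rw [h, mul_inv_eq_iff_eq_mul] at h'
  exact h'

theorem inM_emb_zU {n : ℕ} (t : F) : InM 0 (emb (zU t) : Spg (n + 1 + 1) F) := by
  refine ⟨fun k => ?_, fun k hk hk1 => ?_⟩
  · refine Fin.cases ?_ (fun k => ?_) k
    · rw [← e0_eq (n := n + 1), e0, emb_vec, Matrix.mulVec_zero]
    · rw [← em_lv, em, emb_vec, (inM_zU t).1 k]
  · obtain ⟨k, rfl⟩ := Fin.exists_succ_eq_of_ne_zero (x := k) (fun h => hk (by rw [h]; rfl))
    rw [← em_rv, em, emb_vec, (inS_zU t k (fun h => hk1 (by rw [h]; rfl))).2]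

theorem exists_form_inM {n : ℕ} {A : Spg (n + 1 + 1) F} (h : InM 0 A) :
    ∃ t c t' : F, A = zU t * xU (c • lv (0 : Fin (n + 1))) * emb (zU t' : Spg (n + 1) F) := by
  obtain ⟨t, z, B, rfl⟩ := exists_stab_form (A := A) (by rw [e0_eq]; exact h.1 0)
  have hf : (zU t * xU z * emb B).1 *ᵥ f0 = vec t z (1 : F) := by
    rw [sp_mul_mulVec, sp_mul_mulVec, f0, emb_vec, Matrix.mulVec_zero, xU_vec, zU_vec,
      sf_swap (0 : Vs (n + 1) F), sf_zero_right]
    simp
  have hzr : ∀ k, z (.inr k) = 0 := by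
    intro k
    have h1 := sf_sp (zU t * xU z * emb B) f0 (lv k.succ)
    rw [h.1 k.succ, hf, ← em_lv, sf_vec_em, f0, sf_vec_em, sf_lv, sf_lv] at h1
    simpa using h1
  have hzl : ∀ k, k ≠ 0 → z (.inl k) = 0 := by
    intro k hk
    have h1 := sf_sp (zU t * xU z * emb B) f0 (rv k.succ)
    rw [h.2 k.succ (by simp) (by simpa using hk), hf, ← em_rv, sf_vec_em, f0, sf_vec_em, sf_rv,
      sf_rv] at h1
    simpa using h1
  have hz : z = z (.inl 0) • lv 0 := by
    funext x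
    rcases x with k | k
    · by_cases hk : k = 0
      · subst hk; simp
      · simp [hzl k hk, Pi.single_apply, hk]
    · simp [hzr k]
  have hB : InM 0 (emb B) := by
    have he : emb B = (zU t * xU z)⁻¹ * (zU t * xU z * emb B) := by rw [inv_mul_cancel_left]
    rw [he]
    refine ((inM_zU t).mul ?_).inv.mul h
    rw [hz]; exact inM_xU _
  have hBS : InS 0 B := by
    intro k hk
    have h1 := hB.1 k.succ
    have h2 := hB.2 k.succ (by simp) (by simpa using hk)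
    rw [← em_lv, em, emb_vec] at h1
    rw [← em_rv, em, emb_vec] at h2
    exact ⟨(vec_inj h1).2.1, (vec_inj h2).2.1⟩
  have hBe : B.1 *ᵥ (e0 : Vs (n + 1) F) = e0 := by
    have h1 := hB.1 (0 : Fin (n + 1)).succ
    rw [← em_lv, em, emb_vec] at h1
    rw [e0_eq]
    exact (vec_inj h1).2.1
  obtain ⟨t', z', B', hB'⟩ := exists_stab_form hBe
  refine ⟨t, z (.inl 0), t', ?_⟩
  rw [← hz]
  congr 2
  have hz' : z' = 0 := by
    have h1 : B.1 *ᵥ f0 = vec t' z' (1 : F) := by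
      rw [hB', sp_mul_mulVec, sp_mul_mulVec, f0, emb_vec, Matrix.mulVec_zero, xU_vec, zU_vec,
        sf_swap (0 : Vs n F), sf_zero_right]
      simp
    have h2 := mid_eq_zero_of_inS hBS 0 1
    rw [← f0, h1, mid_vec] at h2
    exact h2
  refine sp_ext_coord fun c a y => ?_
  have h3 := fix_em_of_inS hBS y
  rw [hB', hz', xU_zero, mul_one, sp_mul_mulVec, em, emb_vec, zU_vec, mul_zero, add_zero] at h3
  rw [hB', hz', xU_zero, mul_one, sp_mul_mulVec, emb_vec, (vec_inj h3).2.1]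

end CfsgLib.Char.SpAmalgam
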