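import Cfsg.Agent.Lib.Char.SpAmalgam.Main

/-!
The universal completion of the slim amalgam of a symplectic group.
-/

set_option autoImplicit false

namespace CfsgLib.Char.SpAmalgam

variable {F : Type*} [Field F]

/-- The graph of a homomorphism from a subgroup. -/
def graph {G H : Type*} [Group G] [Group H] {K : Subgroup G} (f : ↥K →* H) : Subgroup (G × H) :=
  (K.subtype.prod f).range

theorem graph_le {G H : Type*} [Group G] [Group H] {K L : Subgroup G} (f : ↥K →* H) (g : ↥L →* H)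
    (h : K ≤ L) (hfg : ∀ (x : G) (hx : x ∈ K), g ⟨x, h hx⟩ = f ⟨x, hx⟩) : graph f ≤ graph g := by
  rintro p ⟨x, rfl⟩
  refine ⟨⟨x.1, h x.2⟩, ?_⟩
  show ((⟨x.1, h x.2⟩ : ↥L).1, g ⟨x.1, h x.2⟩) = (x.1, f x)
  rw [hfg x.1 x.2]

theorem graph_injOn {G H : Type*} [Group G] [Group H] {K : Subgroup G} (f : ↥K →* H) :
    Set.InjOn (MonoidHom.fst G H) ↑(graph f) := by
  rintro _ ⟨x, rfl⟩ _ ⟨y, rfl⟩ hxy
  obtain rfl : x = y := Subtype.ext hxy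
  rfl

theorem graph_sup_le {G H : Type*} [Group G] [Group H] {K L : Subgroup G} (f : ↥K →* H)
    (g : ↥L →* H) (P : ↥(K ⊔ L) →* H)
    (h1 : ∀ (x : G) (hx : x ∈ K), P ⟨x, Subgroup.mem_sup_left hx⟩ = f ⟨x, hx⟩)
    (h2 : ∀ (x : G) (hx : x ∈ L), P ⟨x, Subgroup.mem_sup_right hx⟩ = g ⟨x, hx⟩) :
    Set.InjOn (MonoidHom.fst G H) ↑(graph f ⊔ graph g) :=
  (graph_injOn P).mono (SetLike.coe_subset_coe.2
    (sup_le (graph_le f P le_sup_left h1) (graph_le g P le_sup_right h2)))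

theorem inS_iff_mem_closure {n : ℕ} (j : Fin n) (A : Spg n F) :
    InS j A ↔ A ∈ Subgroup.closure {B : Spg n F | InS j B} := by
  refine ⟨fun h => Subgroup.subset_closure h, fun h => ?_⟩
  induction h using Subgroup.closure_induction with
  | mem B hB => exact hB
  | one => exact InS.one j
  | mul a b _ _ ha hb => exact ha.mul hb
  | inv a _ ha => exact ha.inv

theorem inM_iff_mem_closure {n : ℕ} (i : ℕ) (A : Spg n F) :
    InM i A ↔ A ∈ Subgroup.closure {B : Spg n F | InM i B} := by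
  refine ⟨fun h => Subgroup.subset_closure h, fun h => ?_⟩
  induction h using Subgroup.closure_induction with
  | mem B hB => exact hB
  | one => exact ⟨fun k => CfsgLib.Sp.sp_one_mulVec _, fun k _ _ => CfsgLib.Sp.sp_one_mulVec _⟩
  | mul a b _ _ ha hb => exact ha.mul hb
  | inv a _ ha => exact ha.inv

theorem existsUnique_completion (hF : ∃ a : F, a ≠ 0 ∧ a ≠ 1) (n : ℕ)
    (S M : Fin n → Subgroup (Spg n F))
    (hS : ∀ j, ∀ A, InS j A ↔ A ∈ S j)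
    (hM : ∀ i : Fin n, (i : ℕ) + 1 < n → ∀ A, InM i A ↔ A ∈ M i)
    {H : Type*} [Group H] (σ : ∀ j : Fin n, ↥(S j) →* H) (μ : ∀ i : Fin n, ↥(M i) →* H)
    (hSS : ∀ j l : Fin n, j ≠ l → ∃ P : ↥(S j ⊔ S l) →* H,
      (∀ g (hg : g ∈ S j), P ⟨g, Subgroup.mem_sup_left hg⟩ = σ j ⟨g, hg⟩) ∧
        (∀ g (hg : g ∈ S l), P ⟨g, Subgroup.mem_sup_right hg⟩ = σ l ⟨g, hg⟩))
    (hMM : ∀ i i' : Fin n, i ≠ i' → (i : ℕ) + 1 < n → (i' : ℕ) + 1 < n →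
      ∃ P : ↥(M i ⊔ M i') →* H,
      (∀ g (hg : g ∈ M i), P ⟨g, Subgroup.mem_sup_left hg⟩ = μ i ⟨g, hg⟩) ∧
        (∀ g (hg : g ∈ M i'), P ⟨g, Subgroup.mem_sup_right hg⟩ = μ i' ⟨g, hg⟩))
    (hMS : ∀ i j : Fin n, (i : ℕ) + 1 < n → ∃ P : ↥(M i ⊔ S j) →* H,
      (∀ g (hg : g ∈ M i), P ⟨g, Subgroup.mem_sup_left hg⟩ = μ i ⟨g, hg⟩) ∧
        (∀ g (hg : g ∈ S j), P ⟨g, Subgroup.mem_sup_right hg⟩ = σ j ⟨g, hg⟩)) :
    ∃! Φ : Spg n F →* H,
      (∀ (j : Fin n) g (hg : g ∈ S j), Φ g = σ j ⟨g, hg⟩) ∧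
        (∀ (i : Fin n), (i : ℕ) + 1 < n → ∀ g (hg : g ∈ M i), Φ g = μ i ⟨g, hg⟩) := by
  classical
  let GS : Fin n → Subgroup (Spg n F × H) := fun j => graph (σ j)
  let GM : ℕ → Subgroup (Spg n F × H) := fun i => if h : i < n then graph (μ ⟨i, h⟩) else ⊥
  have hGM : ∀ (i : ℕ) (h : i < n), GM i = graph (μ ⟨i, h⟩) := fun i h => dif_pos h
  set K : Subgroup (Spg n F × H) :=
    Subgroup.closure {p | (∃ j, p ∈ GS j) ∨ ∃ i, i + 1 < n ∧ p ∈ GM i} with hK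
  have hSK : ∀ j, GS j ≤ K := fun j _ hp => Subgroup.subset_closure (Or.inl ⟨j, hp⟩)
  have hMK : ∀ i, i + 1 < n → GM i ≤ K := fun i hi _ hp =>
    Subgroup.subset_closure (Or.inr ⟨i, hi, hp⟩)
  let π : ↥K →* Spg n F := (MonoidHom.fst (Spg n F) H).comp K.subtype
  have hinj : ∀ A B : Subgroup (Spg n F × H), Set.InjOn (MonoidHom.fst (Spg n F) H) ↑(A ⊔ B) →
      Set.InjOn π ↑(A.subgroupOf K ⊔ B.subgroupOf K) := by
    intro A B hAB x hx y hy hxy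
    have hle : A.subgroupOf K ⊔ B.subgroupOf K ≤ (A ⊔ B).subgroupOf K :=
      sup_le (fun _ hz => Subgroup.mem_sup_left (T := B) hz)
        (fun _ hz => Subgroup.mem_sup_right (S := A) hz)
    exact Subtype.ext (hAB (hle hx) (hle hy) hxy)
  have hA : Amal n π (fun j => (GS j).subgroupOf K) (fun i => (GM i).subgroupOf K) := by
    refine ⟨fun j A => ?_, fun i hi A => ?_, fun j l => hinj _ _ ?_, fun i j hi => hinj _ _ ?_,
      fun i i' hi hi' => hinj _ _ ?_, Subgroup.closure_closure_coe_preimage⟩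
    · rw [hS]
      constructor
      · intro hA
        exact ⟨⟨(A, σ j ⟨A, hA⟩), hSK j ⟨⟨A, hA⟩, rfl⟩⟩, ⟨⟨A, hA⟩, rfl⟩, rfl⟩
      · rintro ⟨⟨p, hp⟩, hpm, rfl⟩
        obtain ⟨x, rfl⟩ := hpm
        exact x.2
    · have hi' : i < n := by omega
      show InM i A ↔ A ∈ ((GM i).subgroupOf K).map π
      rw [show InM i A ↔ A ∈ M ⟨i, hi'⟩ from hM ⟨i, hi'⟩ hi A]
      constructor
      · intro hA
        have hp : (A, μ ⟨i, hi'⟩ ⟨A, hA⟩) ∈ GM i := by rw [hGM i hi']; exact ⟨⟨A, hA⟩, rfl⟩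
        exact ⟨⟨(A, μ ⟨i, hi'⟩ ⟨A, hA⟩), hMK i hi hp⟩, hp, rfl⟩
      · rintro ⟨⟨p, hp⟩, hpm, rfl⟩
        have hpm' : p ∈ GM i := hpm
        rw [hGM i hi'] at hpm'
        obtain ⟨x, rfl⟩ := hpm'
        exact x.2
    · by_cases hjl : j = l
      · subst hjl
        rw [sup_idem]
        exact graph_injOn _
      · obtain ⟨P, h1, h2⟩ := hSS j l hjl
        exact graph_sup_le _ _ P h1 h2
    · have hi' : i < n := by omega
      rw [hGM i hi']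
      obtain ⟨P, h1, h2⟩ := hMS ⟨i, hi'⟩ j hi
      exact graph_sup_le _ _ P h1 h2
    · have h1' : i < n := by omega
      have h2' : i' < n := by omega
      rw [hGM i h1', hGM i' h2']
      by_cases hii : i = i'
      · subst hii
        rw [sup_idem]
        exact graph_injOn _
      · obtain ⟨P, h1, h2⟩ := hMM ⟨i, h1'⟩ ⟨i', h2'⟩ (by simpa using hii) hi hi'
        exact graph_sup_le _ _ P h1 h2
  have hb := Amal.bijective hF n hA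
  let e : ↥K ≃* Spg n F := MulEquiv.ofBijective π hb
  let Φ : Spg n F →* H := ((MonoidHom.snd (Spg n F) H).comp K.subtype).comp e.symm.toMonoidHom
  have hΦ : ∀ p : ↥K, Φ p.1.1 = p.1.2 := fun p => by
    show (e.symm (e p)).1.2 = p.1.2
    rw [e.symm_apply_apply]
  have hΦS : ∀ (j : Fin n) g (hg : g ∈ S j), Φ g = σ j ⟨g, hg⟩ := fun j g hg =>
    hΦ ⟨(g, σ j ⟨g, hg⟩), hSK j ⟨⟨g, hg⟩, rfl⟩⟩
  have hΦM : ∀ (i : Fin n), (i : ℕ) + 1 < n → ∀ g (hg : g ∈ M i), Φ g = μ i ⟨g, hg⟩ := by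
    intro i hi g hg
    refine hΦ ⟨(g, μ i ⟨g, hg⟩), hMK i hi ?_⟩
    rw [hGM i i.2]
    exact ⟨⟨g, hg⟩, rfl⟩
  refine ⟨Φ, ⟨hΦS, hΦM⟩, ?_⟩
  rintro Φ' ⟨hS', hM'⟩
  refine MonoidHom.eq_of_eqOn_dense (closure_gens n) ?_
  rintro A (⟨j, hj⟩ | ⟨i, hi, hiA⟩)
  · rw [hS' j A ((hS j A).1 hj), hΦS j A ((hS j A).1 hj)]
  · have hAM := (hM ⟨i, by omega⟩ hi A).1 hiA
    rw [hM' ⟨i, by omega⟩ hi A hAM, hΦM ⟨i, by omega⟩ hi A hAM]

end CfsgLib.Char.SpAmalgam
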