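import Cfsg.Agent.Lib.Char.SpAmalgam.Lifts

/-!
Cosets of the point stabiliser in a slim amalgam.
-/

set_option autoImplicit false

namespace CfsgLib.Char.SpAmalgam

open Matrix CfsgLib.Sp

variable {F : Type*} [Field F] {Γ : Type*} [Group Γ]

namespace Ctx

variable {k : ℕ} {π : Γ →* Spg (k + 1 + 1) F} (D : Ctx k π)

theorem x_neg_mul (z : Vs (k + 1) F) : D.x (-z) * D.x z = 1 := by
  rw [mul_x, neg_add_cancel, x_zero, ← neg_one_smul F z, sf_smul_right, sf_self, mul_zero, zL_zero,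
    one_mul]

theorem x_mul_neg (z : Vs (k + 1) F) : D.x z * D.x (-z) = 1 := by
  have h := D.x_neg_mul (-z)
  rwa [neg_neg] at h

theorem x_inv (z : Vs (k + 1) F) : (D.x z)⁻¹ = D.x (-z) :=
  inv_eq_of_mul_eq_one_right (D.x_mul_neg z)

theorem ι_mul_zL (g : Spg (k + 1) F) (t : F) : D.ι g * D.zL t = D.zL t * D.ι g :=
  (D.ι_commute_S0 g (D.zL_mem t)).eq

theorem stab_mul (t t' : F) (z z' : Vs (k + 1) F) (g g' : Spg (k + 1) F) :
    (D.zL t * D.x z * D.ι g) * (D.zL t' * D.x z' * D.ι g')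
      = D.zL (t + t' + sf (g.1 *ᵥ z') z) * D.x (z + g.1 *ᵥ z') * D.ι (g * g') := by
  calc (D.zL t * D.x z * D.ι g) * (D.zL t' * D.x z' * D.ι g')
      = D.zL t * D.x z * (D.ι g * D.zL t') * D.x z' * D.ι g' := by group
    _ = D.zL t * (D.x z * D.zL t') * (D.ι g * D.x z') * D.ι g' := by
        rw [ι_mul_zL]; group
    _ = D.zL t * D.zL t' * (D.x z * D.x (g.1 *ᵥ z')) * (D.ι g * D.ι g') := by
        rw [(D.x_commute_zL z t').eq, ι_x]; group
    _ = _ := by rw [mul_x, zL_mul, map_mul, ← mul_assoc (D.zL _), zL_mul]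

/-- The stabiliser of the first vector, lifted. -/
def stab : Subgroup Γ where
  carrier := {γ | ∃ t z g, γ = D.zL t * D.x z * D.ι g}
  one_mem' := ⟨0, 0, 1, by rw [zL_zero, x_zero, map_one, one_mul, one_mul]⟩
  mul_mem' := by
    rintro _ _ ⟨t, z, g, rfl⟩ ⟨t', z', g', rfl⟩
    exact ⟨_, _, _, D.stab_mul t t' z z' g g'⟩
  inv_mem' := by
    rintro _ ⟨t, z, g, rfl⟩
    refine ⟨-t, (g⁻¹).1 *ᵥ (-z), g⁻¹, ?_⟩
    refine inv_eq_of_mul_eq_one_right ?_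
    rw [stab_mul, sp_mulVec_inv, add_neg_cancel z, x_zero, ← neg_one_smul F z, sf_smul_left,
      sf_self, mul_zero, add_zero, add_neg_cancel, zL_zero, mul_inv_cancel, map_one, one_mul,
      one_mul]

theorem zL_mem_stab (t : F) : D.zL t ∈ D.stab :=
  ⟨t, 0, 1, by rw [x_zero, map_one, mul_one, mul_one]⟩

theorem x_mem_stab (z : Vs (k + 1) F) : D.x z ∈ D.stab :=
  ⟨0, z, 1, by rw [zL_zero, map_one, mul_one, one_mul]⟩

theorem ι_mem_stab (g : Spg (k + 1) F) : D.ι g ∈ D.stab :=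
  ⟨0, 0, g, by rw [zL_zero, x_zero, one_mul, one_mul]⟩

theorem π_ι (g : Spg (k + 1) F) : π (D.ι g) = emb g := D.hι g

theorem stab_fix {γ : Γ} (h : γ ∈ D.stab) : (π γ).1 *ᵥ e0 = e0 := by
  obtain ⟨t, z, g, rfl⟩ := h
  rw [map_mul, map_mul, π_zL, π_x, D.hι, sp_mul_mulVec, sp_mul_mulVec, e0, emb_vec,
    Matrix.mulVec_zero, xU_vec, zU_vec, sf_swap, sf_zero_right]
  simp

theorem stab_ker {γ : Γ} (h : γ ∈ D.stab) (h1 : π γ = 1) : γ = 1 := by
  obtain ⟨t, z, g, rfl⟩ := h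
  rw [map_mul, map_mul, π_zL, π_x, D.hι] at h1
  have h2 := congrArg (fun A : Spg (k + 1 + 1) F => A.1 *ᵥ f0) h1
  simp only [sp_mul_mulVec, sp_one_mulVec] at h2
  rw [f0, emb_vec, Matrix.mulVec_zero, xU_vec, zU_vec, sf_swap, sf_zero_right] at h2
  simp only [neg_zero, add_zero, zero_add, mul_one, one_smul] at h2
  obtain ⟨ht, hz, -⟩ := vec_inj h2
  rw [ht, hz, zU, tv_zero, xU_zero, one_mul, one_mul, ← map_one emb] at h1
  rw [ht, hz, zL_zero, x_zero, one_mul, one_mul, emb_injective h1, map_one]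

/-- The coset of an element. -/
abbrev q (γ : Γ) : Γ ⧸ D.stab := QuotientGroup.mk γ

theorem q_mul {a b : Γ} (h : D.q a = D.q b) (c : Γ) : D.q (c * a) = D.q (c * b) := by
  rw [QuotientGroup.eq] at h ⊢
  rwa [show (c * a)⁻¹ * (c * b) = a⁻¹ * b by group]

theorem q_mul_stab (a : Γ) {p : Γ} (h : p ∈ D.stab) : D.q (a * p) = D.q a := by
  rw [QuotientGroup.eq, show (a * p)⁻¹ * a = p⁻¹ by group]
  exact inv_mem h

/-- The image of the first vector. -/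
abbrev vof (γ : Γ) : Vs (k + 1 + 1) F := (π γ).1 *ᵥ e0

theorem vof_mul (a b : Γ) : vof (π := π) (a * b) = (π a).1 *ᵥ vof (π := π) b := by
  rw [vof, map_mul, sp_mul_mulVec]

theorem vof_q {a b : Γ} (h : D.q a = D.q b) : vof (π := π) a = vof (π := π) b := by
  rw [QuotientGroup.eq] at h
  have h' := D.stab_fix h
  have hb : b = a * (a⁻¹ * b) := by group
  conv_rhs => rw [hb, vof_mul, vof, h']

/-- Lift of the Weyl element of the first pair. -/
noncomputable def W : Γ := D.zL (-1) * D.lL 1 * D.zL (-1)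

theorem W_mem : D.W ∈ D.S 0 := mul_mem (mul_mem (D.zL_mem _) (D.lL_mem _)) (D.zL_mem _)

theorem π_W : π D.W = wU := by rw [W, map_mul, map_mul, π_zL, π_lL]; rfl

theorem key_base (r : F) :
    D.x (-lv 0) * D.lL r * D.x (lv 0) * D.W
      = D.W * (D.zL (-r) * D.x (r • lv 0) * D.ι (tv (lv 0) (-r))) := by
  have htv : (tv (lv 0) (-r) : Spg (k + 1) F) = zU (-r) := by rw [zU, e0_eq]
  have hm : ∀ c : F, D.x (c • lv 0) ∈ D.M 0 ⊔ D.S 0 := fun c => by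
    rw [x_lv]; exact Subgroup.mem_sup_left (D.mL_mem c)
  have hι : D.ι (tv (lv 0) (-r)) ∈ D.M 0 := by
    rw [htv]
    obtain ⟨m, hm, hm'⟩ := Subgroup.mem_map.1 ((D.amal.mapM 0 h01 _).1 (inM_emb_zU (n := k) (-r)))
    rwa [D.amal.injMS 0 (Fin.succ 0) h01 (Subgroup.mem_sup_right (D.hιS 0 _ (inS_zU (-r))))
      (Subgroup.mem_sup_left hm) (by rw [D.hι, hm'])]
  have hS : ∀ {s}, s ∈ D.S 0 → s ∈ D.M 0 ⊔ D.S 0 := fun h => Subgroup.mem_sup_right h
  refine D.amal.injMS 0 0 h01 ?_ ?_ ?_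
  · refine mul_mem (mul_mem (mul_mem ?_ (hS (D.lL_mem r))) ?_) (hS D.W_mem)
    · rw [← neg_one_smul F (lv 0)]; exact hm _
    · rw [← one_smul F (lv 0)]; exact hm _
  · exact mul_mem (hS D.W_mem) (mul_mem (mul_mem (hS (D.zL_mem _)) (hm r))
      (Subgroup.mem_sup_left hι))
  simp only [map_mul, π_x, π_lL, π_W, π_zL, D.hι]
  refine sp_ext_coord fun c a y => ?_
  simp only [sp_mul_mulVec, xU_vec, zD_vec, wU_vec, zU_vec, emb_vec, tv_mulVec, sf_add_left,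
    sf_smul_left, ← neg_one_smul F (lv 0), sf_smul_right, sf_self]
  congr 1
  · ring
  · module
  · ring

theorem key (y : Vs (k + 1) F) (r : F) :
    D.x (-y) * D.lL r * D.x y * D.W
      = D.W * (D.zL (-r) * D.x (r • y) * D.ι (tv y (-r))) := by
  by_cases hy : y = 0
  · subst hy
    have h0 : tv (0 : Vs (k + 1) F) (-r) = 1 := by
      rw [← zero_smul F (0 : Vs (k + 1) F), tv_smul, mul_zero, zero_mul, tv_zero]
    rw [neg_zero, smul_zero, x_zero, h0, map_one, one_mul, mul_one, mul_one, mul_one]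
    refine D.eqS (mul_mem (D.lL_mem r) D.W_mem) (mul_mem D.W_mem (D.zL_mem _)) ?_
    rw [map_mul, map_mul, π_lL, π_W, π_zL]
    refine sp_ext_coord fun c a y => ?_
    simp only [sp_mul_mulVec, zD_vec, wU_vec, zU_vec]
    congr 1 <;> ring
  obtain ⟨g, rfl⟩ := exists_move (lv_ne_zero (F := F) (0 : Fin (k + 1))) hy
  have h1 : Commute (D.ι g) (D.lL r) := D.ι_commute_S0 g (D.lL_mem r)
  have h2 : Commute (D.ι g) D.W := D.ι_commute_S0 g D.W_mem
  have h3 : Commute (D.ι g) (D.zL (-r)) := D.ι_commute_S0 g (D.zL_mem _)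
  have ht : D.ι (tv (g.1 *ᵥ lv 0) (-r)) = D.ι g * D.ι (tv (lv 0) (-r)) * (D.ι g)⁻¹ := by
    rw [← map_inv, ← map_mul, ← map_mul, tv_conj]
  rw [← Matrix.mulVec_neg, ← Matrix.mulVec_smul, ← x_conj, ← x_conj, ← x_conj, ht]
  calc D.ι g * D.x (-lv 0) * (D.ι g)⁻¹ * D.lL r * (D.ι g * D.x (lv 0) * (D.ι g)⁻¹) * D.W
      = D.ι g * D.x (-lv 0) * ((D.ι g)⁻¹ * D.lL r * D.ι g) * D.x (lv 0)
          * ((D.ι g)⁻¹ * D.W * D.ι g) * (D.ι g)⁻¹ := by group
    _ = D.ι g * (D.x (-lv 0) * D.lL r * D.x (lv 0) * D.W) * (D.ι g)⁻¹ := by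
        rw [h1.inv_mul_cancel, h2.inv_mul_cancel]; group
    _ = D.ι g * (D.W * (D.zL (-r) * D.x (r • lv 0) * D.ι (tv (lv 0) (-r)))) * (D.ι g)⁻¹ := by
        rw [key_base]
    _ = (D.ι g * D.W * (D.ι g)⁻¹) * ((D.ι g * D.zL (-r) * (D.ι g)⁻¹)
          * (D.ι g * D.x (r • lv 0) * (D.ι g)⁻¹)
          * (D.ι g * D.ι (tv (lv 0) (-r)) * (D.ι g)⁻¹)) := by group
    _ = _ := by rw [h2.mul_inv_cancel, h3.mul_inv_cancel]

/-- The coset is that of an element of the big cell or its translates by the first pair. -/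
def Gd (γ : Γ) : Prop := ∃ s ∈ D.S 0, ∃ y, D.q γ = D.q (s * D.x y * D.W)

theorem π_S0_em {s : Γ} (hs : s ∈ D.S 0) (y : Vs (k + 1) F) : (π s).1 *ᵥ em y = em y :=
  fix_em_of_inS ((D.amal.mapS 0 _).2 (Subgroup.mem_map_of_mem π hs)) y

theorem vof_cell {s : Γ} (hs : s ∈ D.S 0) (y : Vs (k + 1) F) :
    vof (π := π) (s * D.x y * D.W) = (π s).1 *ᵥ f0 + em y := by
  rw [vof, map_mul, map_mul, π_x, π_W, sp_mul_mulVec, sp_mul_mulVec, e0, wU_vec, xU_vec,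
    sf_swap, sf_zero_right]
  have h : vec (-(0 : F) + -0) (0 + (1 : F) • y) 1 = f0 + em y := by
    rw [f0, em, vec_add]; simp
  rw [h, Matrix.mulVec_add, D.π_S0_em hs]

theorem mid_S0 {s : Γ} (hs : s ∈ D.S 0) (c a : F) : mid ((π s).1 *ᵥ vec c 0 a) = 0 :=
  mid_eq_zero_of_inS ((D.amal.mapS 0 _).2 (Subgroup.mem_map_of_mem π hs)) c a

theorem Gd.good {γ : Γ} (h : D.Gd γ) :
    vof (π := π) γ (.inl 0) ≠ 0 ∨ vof (π := π) γ (.inr 0) ≠ 0 := by
  obtain ⟨s, hs, y, hq⟩ := h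
  rw [D.vof_q hq, D.vof_cell hs]
  by_contra hc
  push_neg at hc
  have h0 : (π s).1 *ᵥ (f0 : Vs (k + 1 + 1) F) = 0 := by
    rw [← vec_eta ((π s).1 *ᵥ f0)]
    rw [show mid ((π s).1 *ᵥ (f0 : Vs (k + 1 + 1) F)) = 0 from D.mid_S0 hs 0 1]
    have h1 := hc.1
    have h2 := hc.2
    simp only [Pi.add_apply, em, vec, Sum.elim_inl, Sum.elim_inr, Fin.cons_zero, add_zero] at h1 h2
    rw [h1, h2, vec_zero]
  exact sp_mulVec_ne_zero _ (by rw [f0_eq]; exact rv_ne_zero 0) h0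

theorem Gd.eq {γ γ' : Γ} (h : D.Gd γ) (h' : D.Gd γ')
    (hv : vof (π := π) γ = vof (π := π) γ') : D.q γ = D.q γ' := by
  obtain ⟨s, hs, y, hq⟩ := h
  obtain ⟨s', hs', y', hq'⟩ := h'
  rw [D.vof_q hq, D.vof_q hq', D.vof_cell hs, D.vof_cell hs'] at hv
  have hy : y = y' := by
    have := congrArg mid hv
    have e : ∀ {t : Γ}, t ∈ D.S 0 → ∀ w, mid ((π t).1 *ᵥ (f0 : Vs (k + 1 + 1) F) + em w) = w := by
      intro t ht w
      rw [← vec_eta ((π t).1 *ᵥ f0), show mid ((π t).1 *ᵥ (f0 : Vs (k + 1 + 1) F)) = 0 from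
        D.mid_S0 ht 0 1, em, vec_add, mid_vec, zero_add]
    rwa [e hs, e hs'] at this
  subst hy
  obtain ⟨r, hr⟩ := exists_zD_of_fix (A := π (s⁻¹ * s'))
    ((D.amal.mapS 0 _).2 (Subgroup.mem_map_of_mem π (mul_mem (inv_mem hs) hs')))
    (by rw [map_mul, map_inv, sp_mul_mulVec, ← add_right_cancel hv, sp_inv_mulVec])
  have hs'' : s' = s * D.lL r := by
    have h := D.eqS (mul_mem (inv_mem hs) hs') (D.lL_mem r) (by rw [hr, π_lL])
    rw [← h, mul_inv_cancel_left]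
  rw [hq, hq', hs'']
  have hk := D.key y r
  have e : s * D.lL r * D.x y * D.W
      = s * D.x y * D.W * (D.zL (-r) * D.x (r • y) * D.ι (tv y (-r))) :=
    calc s * D.lL r * D.x y * D.W
        = s * (D.x y * D.x (-y)) * D.lL r * D.x y * D.W := by rw [x_mul_neg]; group
      _ = s * D.x y * (D.x (-y) * D.lL r * D.x y * D.W) := by group
      _ = _ := by rw [hk]; group
  rw [e]
  refine (D.q_mul_stab _ ?_).symm
  exact mul_mem (mul_mem (D.zL_mem_stab _) (D.x_mem_stab _)) (D.ι_mem_stab _)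

theorem Gd.congr {γ γ' : Γ} (h : D.Gd γ) (e : D.q γ' = D.q γ) : D.Gd γ' := by
  obtain ⟨s, hs, y, hq⟩ := h
  exact ⟨s, hs, y, e.trans hq⟩

theorem Gd.S0 {γ t : Γ} (h : D.Gd γ) (ht : t ∈ D.S 0) : D.Gd (t * γ) := by
  obtain ⟨s, hs, y, hq⟩ := h
  exact ⟨t * s, mul_mem ht hs, y, by rw [D.q_mul hq t]; simp only [mul_assoc]⟩

theorem Gd.ι {γ : Γ} (h : D.Gd γ) (g : Spg (k + 1) F) : D.Gd (D.ι g * γ) := by
  obtain ⟨s, hs, y, hq⟩ := h
  refine ⟨s, hs, g.1 *ᵥ y, ?_⟩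
  have e : D.ι g * (s * D.x y * D.W) = s * D.x (g.1 *ᵥ y) * D.W * D.ι g :=
    calc D.ι g * (s * D.x y * D.W) = (D.ι g * s) * D.x y * D.W := by group
      _ = s * (D.ι g * D.x y) * D.W := by rw [(D.ι_commute_S0 g hs).eq]; group
      _ = s * D.x (g.1 *ᵥ y) * (D.ι g * D.W) := by rw [ι_x]; group
      _ = _ := by rw [(D.ι_commute_S0 g D.W_mem).eq]; group
  rw [D.q_mul hq, e, q_mul_stab _ _ (D.ι_mem_stab g)]

theorem Gd.stab_one : D.Gd 1 :=
  ⟨D.W⁻¹, inv_mem D.W_mem, 0, by rw [x_zero, mul_one, inv_mul_cancel]⟩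

/-- A diagonal element of the first pair. -/
noncomputable def hL (a : F) : Γ :=
  D.zL (-a⁻¹) * D.lL (a - 1) * D.zL 1 * D.lL (-((a - 1) / a))

theorem hL_mem (a : F) : D.hL a ∈ D.S 0 :=
  mul_mem (mul_mem (mul_mem (D.zL_mem _) (D.lL_mem _)) (D.zL_mem _)) (D.lL_mem _)

theorem π_hL_vec {a : F} (ha : a ≠ 0) (c b : F) (y : Vs (k + 1) F) :
    (π (D.hL a)).1 *ᵥ vec c y b = vec (c / a) y (a * b) := by
  simp only [hL, map_mul, π_zL, π_lL, sp_mul_mulVec, zU_vec, zD_vec]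
  congr 1 <;> field_simp <;> ring

theorem x_hL {a : F} (ha : a ≠ 0) (z : Vs (k + 1) F) :
    D.x z * D.hL a = D.hL a * D.x (a • z) := by
  by_cases hz : z = 0
  · rw [hz, smul_zero, x_zero, one_mul, mul_one]
  obtain ⟨g, rfl⟩ := exists_move (lv_ne_zero (F := F) (0 : Fin (k + 1))) hz
  have hb : D.x (lv 0) * D.hL a = D.hL a * D.x (a • lv 0) := by
    rw [← one_smul F (lv 0 : Vs (k + 1) F), x_lv, one_smul, x_lv]
    refine D.amal.injMS 0 0 h01
      (mul_mem (Subgroup.mem_sup_left (D.mL_mem _)) (Subgroup.mem_sup_right (D.hL_mem a)))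
      (mul_mem (Subgroup.mem_sup_right (D.hL_mem a)) (Subgroup.mem_sup_left (D.mL_mem _))) ?_
    refine sp_ext_coord fun c b y => ?_
    simp only [map_mul, π_mL, sp_mul_mulVec, D.π_hL_vec ha, xU_vec, sf_smul_right, one_mul]
    congr 1
    · field_simp
    · module
  have hc : Commute (D.ι g) (D.hL a) := D.ι_commute_S0 g (D.hL_mem a)
  rw [← Matrix.mulVec_smul, ← x_conj, ← x_conj]
  calc D.ι g * D.x (lv 0) * (D.ι g)⁻¹ * D.hL a
      = D.ι g * D.x (lv 0) * ((D.ι g)⁻¹ * D.hL a * D.ι g) * (D.ι g)⁻¹ := by group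
    _ = D.ι g * (D.x (lv 0) * D.hL a) * (D.ι g)⁻¹ := by rw [hc.inv_mul_cancel]; group
    _ = (D.ι g * D.hL a * (D.ι g)⁻¹) * (D.ι g * D.x (a • lv 0) * (D.ι g)⁻¹) := by rw [hb]; group
    _ = _ := by rw [hc.mul_inv_cancel]

theorem Gd.x_right {γ : Γ} (h : D.Gd γ) (ha : vof (π := π) γ (.inr 0) ≠ 0) (z : Vs (k + 1) F) :
    D.Gd (D.x z * γ) := by
  obtain ⟨s, hs, y, hq⟩ := h
  set a := vof (π := π) γ (.inr 0) with ha'
  set c := vof (π := π) γ (.inl 0) with hc'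
  have hs2 : D.zL (c / a) * D.hL a ∈ D.S 0 := mul_mem (D.zL_mem _) (D.hL_mem a)
  have hG : D.Gd (D.zL (c / a) * D.hL a * D.x y * D.W) := ⟨_, hs2, y, rfl⟩
  have hq2 : D.q γ = D.q (D.zL (c / a) * D.hL a * D.x y * D.W) := by
    refine Gd.eq D ⟨s, hs, y, hq⟩ hG ?_
    have hv := (D.vof_q hq).trans (D.vof_cell hs y)
    have hm : mid ((π s).1 *ᵥ (f0 : Vs (k + 1 + 1) F)) = 0 := D.mid_S0 hs 0 1
    have hfix : (π s).1 *ᵥ (f0 : Vs (k + 1 + 1) F) = vec c 0 a := by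
      rw [← vec_eta ((π s).1 *ᵥ f0), hm]
      congr 1
      · rw [hc', hv]; simp [em, vec]
      · rw [ha', hv]; simp [em, vec]
    rw [D.vof_cell hs2, hv, hfix]
    congr 1
    rw [map_mul, π_zL, sp_mul_mulVec, f0, D.π_hL_vec ha, zU_vec]
    congr 1
    · rw [zero_div, zero_add, mul_one, div_mul_cancel₀ _ ha]
    · rw [mul_one]
  refine ⟨D.zL (c / a) * D.hL a * D.zL (sf y (a • z)),
    mul_mem hs2 (D.zL_mem _), a • z + y, ?_⟩
  rw [D.q_mul hq2]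
  congr 1
  calc D.x z * (D.zL (c / a) * D.hL a * D.x y * D.W)
      = (D.x z * D.zL (c / a)) * D.hL a * D.x y * D.W := by group
    _ = D.zL (c / a) * (D.x z * D.hL a) * D.x y * D.W := by
        rw [(D.x_commute_zL z _).eq]; group
    _ = D.zL (c / a) * D.hL a * (D.x (a • z) * D.x y) * D.W := by rw [D.x_hL ha]; group
    _ = _ := by rw [mul_x]; group

theorem π_inv_W_vec (c b : F) (y : Vs (k + 1) F) :
    (π D.W⁻¹).1 *ᵥ vec c y b = vec b y (-c) := by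
  have h : vec c y b = (π D.W).1 *ᵥ vec b y (-c) := by rw [π_W, wU_vec, neg_neg]
  rw [h, map_inv, sp_inv_mulVec]

theorem Gd.x {γ : Γ} (h : D.Gd γ) (z : Vs (k + 1) F)
    (hgood : vof (π := π) (D.x z * γ) (.inl 0) ≠ 0 ∨ vof (π := π) (D.x z * γ) (.inr 0) ≠ 0) :
    D.Gd (D.x z * γ) := by
  by_cases ha : vof (π := π) γ (.inr 0) ≠ 0
  · exact Gd.x_right D h ha z
  push_neg at ha
  set c := vof (π := π) γ (.inl 0) with hc
  set y := mid (vof (π := π) γ) with hy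
  have hv : vof (π := π) γ = vec c y 0 := by rw [← ha]; exact (vec_eta _).symm
  have hc0 : c ≠ 0 := (Gd.good D h).resolve_right (fun e => e ha)
  have hc1 : c + sf y z ≠ 0 := by
    rw [vof_mul, hv, π_x, xU_vec] at hgood
    simpa [vec] using hgood
  have g1 : D.Gd (D.lL (-1) * γ) := Gd.S0 D h (D.lL_mem _)
  have v1 : vof (π := π) (D.lL (-1) * γ) = vec c y (-c) := by
    rw [vof_mul, hv, π_lL, zD_vec]; congr 1; ring
  have g2 : D.Gd (D.x z * (D.lL (-1) * γ)) := by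
    refine Gd.x_right D g1 ?_ z
    rw [v1]; simpa [vec] using hc0
  have v2 : vof (π := π) (D.x z * (D.lL (-1) * γ)) = vec (c + sf y z) (y + (-c) • z) (-c) := by
    rw [vof_mul, v1, π_x, xU_vec]
  set u : Spg (k + 1) F := tv (-z) (-1) with hu
  have g3 : D.Gd (D.ι u * (D.W⁻¹ * (D.x z * (D.lL (-1) * γ)))) :=
    Gd.ι D (Gd.S0 D g2 (inv_mem D.W_mem)) u
  have g4 : D.Gd (D.x ((1 : F) • -z) * (D.ι u * (D.W⁻¹ * (D.x z * (D.lL (-1) * γ))))) := by
    refine Gd.x_right D g3 ?_ _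
    rw [vof_mul, vof_mul, v2, π_inv_W_vec, D.hι, emb_vec]
    intro e
    apply hc1
    simp [vec] at e
    linear_combination -e
  have g5 := Gd.S0 D (Gd.S0 D g4 (D.zL_mem (-1))) D.W_mem
  have e : D.x z * γ
      = D.W * (D.zL (-1) * (D.x ((1 : F) • -z) * (D.ι u * (D.W⁻¹ * (D.x z * (D.lL (-1) * γ)))))) := by
    have hk : D.x z * D.lL 1 * D.x (-z) * D.W
        = D.W * (D.zL (-1) * D.x ((1 : F) • -z) * D.ι u) := by
      have := D.key (-z) 1
      rwa [neg_neg] at this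
    have hl : D.lL 1 * D.lL (-1) = 1 := D.eqS (mul_mem (D.lL_mem _) (D.lL_mem _)) (one_mem _) (by
      rw [map_mul, π_lL, π_lL, zD, zD, tv_mul, map_one, neg_neg, neg_add_cancel, tv_zero])
    calc D.x z * γ = D.x z * (D.lL 1 * D.lL (-1)) * γ := by rw [hl, mul_one]
      _ = D.x z * D.lL 1 * (D.x (-z) * D.x z) * D.lL (-1) * γ := by rw [x_neg_mul]; group
      _ = D.x z * D.lL 1 * D.x (-z) * D.W * (D.W⁻¹ * (D.x z * (D.lL (-1) * γ))) := by group
      _ = _ := by rw [hk]; group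
  rw [e]
  exact g5

/-- The cosets reached from the big cell by the radical. -/
def Reach (γ : Γ) : Prop := ∃ z γ', D.Gd γ' ∧ D.q γ = D.q (D.x z * γ')

theorem Reach.x {γ : Γ} (h : D.Reach γ) (w : Vs (k + 1) F) : D.Reach (D.x w * γ) := by
  obtain ⟨z, γ', hg, hq⟩ := h
  refine ⟨w + z, D.zL (sf z w) * γ', Gd.S0 D hg (D.zL_mem _), ?_⟩
  rw [D.q_mul hq, ← mul_assoc, mul_x, ← mul_assoc (D.x (w + z)), (D.x_commute_zL _ _).eq]

theorem Reach.ι {γ : Γ} (h : D.Reach γ) (g : Spg (k + 1) F) : D.Reach (D.ι g * γ) := by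
  obtain ⟨z, γ', hg, hq⟩ := h
  refine ⟨g.1 *ᵥ z, D.ι g * γ', Gd.ι D hg g, ?_⟩
  rw [D.q_mul hq, ← mul_assoc, ← mul_assoc, ι_x]

theorem Reach.zL {γ : Γ} (h : D.Reach γ) (t : F) : D.Reach (D.zL t * γ) := by
  obtain ⟨z, γ', hg, hq⟩ := h
  refine ⟨z, D.zL t * γ', Gd.S0 D hg (D.zL_mem _), ?_⟩
  rw [D.q_mul hq, ← mul_assoc, ← mul_assoc, (D.x_commute_zL z t).eq]

theorem Reach.lL {γ : Γ} (h : D.Reach γ) (r : F) : D.Reach (D.lL r * γ) := by
  obtain ⟨z, γ', hg, hq⟩ := h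
  by_cases hgood : vof (π := π) (D.x z * γ') (.inl 0) ≠ 0 ∨ vof (π := π) (D.x z * γ') (.inr 0) ≠ 0
  · refine ⟨0, D.lL r * (D.x z * γ'), Gd.S0 D (Gd.x D hg z hgood) (D.lL_mem r), ?_⟩
    rw [D.q_mul hq, x_zero, one_mul]
  push_neg at hgood
  set c := vof (π := π) γ' (.inl 0) with hc
  set a := vof (π := π) γ' (.inr 0) with ha
  set y := mid (vof (π := π) γ') with hy
  have hv : vof (π := π) γ' = vec c y a := (vec_eta _).symm
  rw [vof_mul, hv, π_x, xU_vec] at hgood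
  have ha0 : a = 0 := by simpa [vec] using hgood.2
  have hc0 : c ≠ 0 := (Gd.good D hg).resolve_right (fun e => e ha0)
  have g1 : D.Gd (D.ι (tv z (-r)) * (D.W⁻¹ * γ')) :=
    Gd.ι D (Gd.S0 D hg (inv_mem D.W_mem)) _
  have g2 : D.Gd (D.x (r • z) * (D.ι (tv z (-r)) * (D.W⁻¹ * γ'))) := by
    refine Gd.x_right D g1 ?_ _
    rw [vof_mul, vof_mul, hv, π_inv_W_vec, D.hι, emb_vec]
    simpa [vec] using hc0
  have g3 := Gd.S0 D (Gd.S0 D g2 (D.zL_mem (-r))) D.W_mem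
  refine ⟨z, _, g3, ?_⟩
  rw [D.q_mul hq]
  congr 1
  have hk := D.key z r
  calc D.lL r * (D.x z * γ')
      = D.x z * D.x (-z) * D.lL r * (D.x z * γ') := by rw [x_mul_neg, one_mul]
    _ = D.x z * (D.x (-z) * D.lL r * D.x z * D.W) * (D.W⁻¹ * γ') := by group
    _ = _ := by rw [hk]; group

theorem mem_closure_gens0 (γ : Γ) :
    γ ∈ Subgroup.closure {γ : Γ | (∃ t, γ = D.zL t) ∨ (∃ r, γ = D.lL r) ∨ (∃ z, γ = D.x z) ∨
      ∃ g, γ = D.ι g} := by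
  set G := Subgroup.closure {γ : Γ | (∃ t, γ = D.zL t) ∨ (∃ r, γ = D.lL r) ∨ (∃ z, γ = D.x z) ∨
      ∃ g, γ = D.ι g}
  have hz : ∀ t, D.zL t ∈ G := fun t => Subgroup.subset_closure (Or.inl ⟨t, rfl⟩)
  have hl : ∀ r, D.lL r ∈ G := fun r => Subgroup.subset_closure (Or.inr (Or.inl ⟨r, rfl⟩))
  have hx : ∀ z, D.x z ∈ G := fun z => Subgroup.subset_closure (Or.inr (Or.inr (Or.inl ⟨z, rfl⟩)))
  have hi : ∀ g, D.ι g ∈ G := fun g => Subgroup.subset_closure (Or.inr (Or.inr (Or.inr ⟨g, rfl⟩)))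
  have hle : pair0 (k + 1) F ≤ (G ⊓ D.S 0).map π := by
    refine (Subgroup.closure_le _).2 ?_
    rintro A (⟨t, rfl⟩ | ⟨r, rfl⟩)
    · exact ⟨D.zL t, ⟨hz t, D.zL_mem t⟩, D.π_zL t⟩
    · exact ⟨D.lL r, ⟨hl r, D.lL_mem r⟩, D.π_lL r⟩
  have hS : ∀ s ∈ D.S 0, s ∈ G := by
    intro s hs
    obtain ⟨w, ⟨hw, hw'⟩, hwA⟩ := hle (mem_pair0_of_inS
      ((D.amal.mapS 0 _).2 (Subgroup.mem_map_of_mem π hs)))
    rwa [D.eqS hs hw' hwA.symm]
  have hall : (⊤ : Subgroup Γ) ≤ G := by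
    rw [← D.amal.gen, Subgroup.closure_le]
    rintro w (⟨j, hj⟩ | ⟨i, hin, hiw⟩)
    · induction j using Fin.cases with
      | zero => exact hS w hj
      | succ j =>
        obtain ⟨g, rfl⟩ := D.hSι j w hj
        exact hi g
    · rcases Nat.eq_zero_or_pos i with rfl | hpos
      · obtain ⟨t, c, t', hA⟩ := exists_form_inM
          ((D.amal.mapM 0 h01 _).2 (Subgroup.mem_map_of_mem π hiw))
        have hm : D.ι (zU t') ∈ D.M 0 := by
          obtain ⟨m, hm, hm'⟩ := Subgroup.mem_map.1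
            ((D.amal.mapM 0 h01 _).1 (inM_emb_zU (n := k) t'))
          rwa [D.amal.injMS 0 (Fin.succ 0) h01 (Subgroup.mem_sup_right (D.hιS 0 _ (inS_zU t')))
            (Subgroup.mem_sup_left hm) (by rw [D.hι, hm'])]
        rw [D.amal.injMM 0 0 h01 h01 (Subgroup.mem_sup_left hiw)
          (Subgroup.mem_sup_left (mul_mem (mul_mem (D.zL_mem_M t) (D.mL_mem c)) hm))
          (by rw [map_mul, map_mul, π_zL, π_mL, D.hι, hA])]
        refine mul_mem (mul_mem (hz t) ?_) (hi _)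
        rw [← x_lv]; exact hx _
      · obtain ⟨i, rfl⟩ := Nat.exists_eq_succ_of_ne_zero hpos.ne'
        obtain ⟨g, rfl⟩ := D.hMι i w (by omega) hiw
        exact hi g
  exact hall trivial

include D in
theorem injective : Function.Injective π := by
  have hall : ∀ γ, ∀ γ', (D.Reach γ' → D.Reach (γ * γ')) ∧ (D.Reach γ' → D.Reach (γ⁻¹ * γ')) := by
    intro γ
    induction D.mem_closure_gens0 γ using Subgroup.closure_induction with
    | mem w hw =>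
      intro γ'
      rcases hw with ⟨t, rfl⟩ | ⟨r, rfl⟩ | ⟨z, rfl⟩ | ⟨g, rfl⟩
      · refine ⟨fun h => Reach.zL D h t, fun h => ?_⟩
        rw [inv_eq_of_mul_eq_one_right (by rw [zL_mul, add_neg_cancel, zL_zero] :
          D.zL t * D.zL (-t) = 1)]
        exact Reach.zL D h (-t)
      · refine ⟨fun h => Reach.lL D h r, fun h => ?_⟩
        rw [inv_eq_of_mul_eq_one_right (D.eqS (mul_mem (D.lL_mem r) (D.lL_mem (-r))) (one_mem _)
          (by rw [map_mul, π_lL, π_lL, zD, zD, tv_mul, map_one, neg_neg, neg_add_cancel, tv_zero]) :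
          D.lL r * D.lL (-r) = 1)]
        exact Reach.lL D h (-r)
      · refine ⟨fun h => Reach.x D h z, fun h => ?_⟩
        rw [x_inv]; exact Reach.x D h (-z)
      · refine ⟨fun h => Reach.ι D h g, fun h => ?_⟩
        rw [← map_inv]; exact Reach.ι D h g⁻¹
    | one => intro γ'; simp
    | mul a b _ _ ha hb =>
      intro γ'
      refine ⟨fun h => ?_, fun h => ?_⟩
      · rw [mul_assoc]; exact (ha _).1 ((hb _).1 h)
      · rw [_root_.mul_inv_rev, mul_assoc]; exact (hb _).2 ((ha _).2 h)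
    | inv a _ ha =>
      intro γ'
      exact ⟨(ha γ').2, fun h => by rw [inv_inv]; exact (ha γ').1 h⟩
  rw [← MonoidHom.ker_eq_bot_iff]
  refine eq_bot_iff.2 fun γ hγ => ?_
  rw [MonoidHom.mem_ker] at hγ
  have h1 : D.Reach 1 := ⟨0, 1, Gd.stab_one D, by rw [x_zero, one_mul]⟩
  have h := (hall γ 1).1 h1
  rw [mul_one] at h
  obtain ⟨z, γ', hg, hq⟩ := h
  have hv : vof (π := π) (D.x z * γ') = vof (π := π) 1 := by
    rw [← D.vof_q hq, vof, vof, hγ, map_one]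
  have hgood : vof (π := π) (D.x z * γ') (.inl 0) ≠ 0 := by
    rw [hv, vof, map_one, sp_one_mulVec]; simp [e0, vec]
  have hq1 := hq.trans (Gd.eq D (Gd.x D hg z (Or.inl hgood)) (Gd.stab_one D) hv)
  rw [QuotientGroup.eq, mul_one] at hq1
  exact Subgroup.mem_bot.2 (D.stab_ker (inv_mem_iff.1 hq1) hγ)

end Ctx

end CfsgLib.Char.SpAmalgam
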