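import Cfsg.Agent.Lib.Char.SpAmalgam.Amalgam

/-!
The unipotent radical of the point stabiliser inside a slim amalgam.
-/

set_option autoImplicit false

namespace CfsgLib.Char.SpAmalgam

open Matrix CfsgLib.Sp

variable {F : Type*} [Field F] {Γ : Type*} [Group Γ]

/-- The relation between two orthogonal short root elements, needed over the field with two elements. -/
def OrthBase {k : ℕ} (π : Γ →* Spg (k + 1 + 1) F) (M : ℕ → Subgroup Γ) (ι : Spg (k + 1) F →* Γ) : Prop :=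
  ∀ hk : 1 ≤ k, ∃ m ∈ M 0, ∃ a b : Spg (k + 1) F, π m = xU (lv 0) ∧
    a.1 *ᵥ (lv 0 : Vs (k + 1) F) = lv ⟨1, by omega⟩ ∧
    b.1 *ᵥ (lv 0 : Vs (k + 1) F) = lv 0 + lv ⟨1, by omega⟩ ∧
    m * (ι a * m * (ι a)⁻¹) = ι b * m * (ι b)⁻¹

/-- The data for the inductive step: the amalgam and the smaller group inside it. -/
structure Ctx (k : ℕ) (π : Γ →* Spg (k + 1 + 1) F) where
  S : Fin (k + 1 + 1) → Subgroup Γ
  M : ℕ → Subgroup Γ
  amal : Amal (k + 1 + 1) π S M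
  ι : Spg (k + 1) F →* Γ
  orth : (∃ β : F, β ≠ 0 ∧ β ≠ -1) ∨ OrthBase π M ι
  hι : ∀ B, π (ι B) = emb B
  hιS : ∀ j B, InS j B → ι B ∈ S j.succ
  hιM : ∀ i B, i + 1 < k + 1 → InM i B → ι B ∈ M (i + 1)
  hSι : ∀ j x, x ∈ S (Fin.succ j) → x ∈ ι.range
  hMι : ∀ i x, i + 1 < k + 1 → x ∈ M (i + 1) → x ∈ ι.range

namespace Ctx

variable {k : ℕ} {π : Γ →* Spg (k + 1 + 1) F} (D : Ctx k π)

theorem eqS {j : Fin (k + 1 + 1)} {x y : Γ} (hx : x ∈ D.S j) (hy : y ∈ D.S j) (h : π x = π y) :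
    x = y := D.amal.injSS j j (Subgroup.mem_sup_left hx) (Subgroup.mem_sup_left hy) h

theorem h01 : 0 + 1 < k + 1 + 1 := by omega

theorem exists_zL (t : F) : ∃ x ∈ D.S 0, π x = zU t :=
  Subgroup.mem_map.1 ((D.amal.mapS 0 _).1 (inS_zU t))

theorem exists_lL (r : F) : ∃ x ∈ D.S 0, π x = zD r :=
  Subgroup.mem_map.1 ((D.amal.mapS 0 _).1 (inS_zD r))

theorem exists_mL (c : F) : ∃ x ∈ D.M 0, π x = xU (c • lv 0) :=
  Subgroup.mem_map.1 ((D.amal.mapM 0 h01 _).1 (inM_xU c))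

/-- Lift of the long root elements. -/
noncomputable def zL (t : F) : Γ := (D.exists_zL t).choose

/-- Lift of the opposite long root elements. -/
noncomputable def lL (r : F) : Γ := (D.exists_lL r).choose

/-- Lift of a short root group. -/
noncomputable def mL (c : F) : Γ := (D.exists_mL c).choose

theorem zL_mem (t : F) : D.zL t ∈ D.S 0 := (D.exists_zL t).choose_spec.1
theorem π_zL (t : F) : π (D.zL t) = zU t := (D.exists_zL t).choose_spec.2
theorem lL_mem (r : F) : D.lL r ∈ D.S 0 := (D.exists_lL r).choose_spec.1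
theorem π_lL (r : F) : π (D.lL r) = zD r := (D.exists_lL r).choose_spec.2
theorem mL_mem (c : F) : D.mL c ∈ D.M 0 := (D.exists_mL c).choose_spec.1
theorem π_mL (c : F) : π (D.mL c) = xU (c • lv 0) := (D.exists_mL c).choose_spec.2

theorem zL_zero : D.zL 0 = 1 :=
  D.eqS (D.zL_mem 0) (one_mem _) (by rw [π_zL, map_one, zU, tv_zero])

theorem zL_mul (s t : F) : D.zL s * D.zL t = D.zL (s + t) :=
  D.eqS (mul_mem (D.zL_mem s) (D.zL_mem t)) (D.zL_mem _) (by
    rw [map_mul, π_zL, π_zL, π_zL, zU, zU, tv_mul]; rfl)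

theorem zL_mem_M (t : F) : D.zL t ∈ D.M 0 := by
  obtain ⟨x, hx, hxt⟩ := Subgroup.mem_map.1 ((D.amal.mapM 0 h01 _).1 (inM_zU t))
  rwa [D.amal.injMS 0 0 h01 (Subgroup.mem_sup_right (D.zL_mem t)) (Subgroup.mem_sup_left hx)
    (by rw [π_zL, hxt])]

theorem ι_commute_S0 (B : Spg (k + 1) F) {s : Γ} (hs : s ∈ D.S 0) : Commute (D.ι B) s := by
  have hA : InS 0 (π s) := (D.amal.mapS 0 _).2 (Subgroup.mem_map_of_mem π hs)
  have hB : B ∈ Subgroup.closure (gens (k + 1) F) := by rw [closure_gens]; trivial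
  induction hB using Subgroup.closure_induction with
  | mem B hB =>
    have hπ : π (D.ι B * s) = π (s * D.ι B) := by
      rw [map_mul, map_mul, D.hι]; exact (pair0_commute_emb hA B).symm.eq
    rcases hB with ⟨j, hj⟩ | ⟨i, hi, hi'⟩
    · exact D.amal.injSS j.succ 0
        (mul_mem (Subgroup.mem_sup_left (D.hιS j B hj)) (Subgroup.mem_sup_right hs))
        (mul_mem (Subgroup.mem_sup_right hs) (Subgroup.mem_sup_left (D.hιS j B hj))) hπ
    · exact D.amal.injMS (i + 1) 0 (by omega)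
        (mul_mem (Subgroup.mem_sup_left (D.hιM i B hi hi')) (Subgroup.mem_sup_right hs))
        (mul_mem (Subgroup.mem_sup_right hs) (Subgroup.mem_sup_left (D.hιM i B hi hi'))) hπ
  | one => rw [map_one]; exact Commute.one_left _
  | mul x y _ _ hx hy => rw [map_mul]; exact hx.mul_left hy
  | inv x _ hx => rw [map_inv]; exact hx.inv_left

theorem mL_commute_zL (c t : F) : Commute (D.mL c) (D.zL t) :=
  D.amal.injMS 0 0 h01
    (mul_mem (Subgroup.mem_sup_left (D.mL_mem c)) (Subgroup.mem_sup_right (D.zL_mem t)))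
    (mul_mem (Subgroup.mem_sup_right (D.zL_mem t)) (Subgroup.mem_sup_left (D.mL_mem c))) (by
    rw [map_mul, map_mul, π_mL, π_zL]
    refine sp_ext_coord fun c' a y => ?_
    simp only [sp_mul_mulVec, xU_vec, zU_vec]
    congr 1
    ring)

theorem mL_commute_stab {g : Spg (k + 1) F} (hg : g.1 *ᵥ (e0 : Vs (k + 1) F) = e0) (c : F) :
    Commute (D.ι g) (D.mL c) := by
  have hg' := stab_le_closure hg
  induction hg' using Subgroup.closure_induction with
  | mem B hB =>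
    obtain ⟨hB, hfix⟩ := hB
    have hπ : π (D.ι B * D.mL c) = π (D.mL c * D.ι B) := by
      rw [map_mul, map_mul, D.hι, π_mL]
      exact (emb_commute_xU (by rw [Matrix.mulVec_smul, ← e0_eq, hfix])).eq
    rcases hB with ⟨j, hj⟩ | ⟨i, hi, hi'⟩
    · exact D.amal.injMS 0 j.succ h01
        (mul_mem (Subgroup.mem_sup_right (D.hιS j B hj)) (Subgroup.mem_sup_left (D.mL_mem c)))
        (mul_mem (Subgroup.mem_sup_left (D.mL_mem c)) (Subgroup.mem_sup_right (D.hιS j B hj))) hπ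
    · exact D.amal.injMM (i + 1) 0 (by omega) h01
        (mul_mem (Subgroup.mem_sup_left (D.hιM i B hi hi')) (Subgroup.mem_sup_right (D.mL_mem c)))
        (mul_mem (Subgroup.mem_sup_right (D.mL_mem c)) (Subgroup.mem_sup_left (D.hιM i B hi hi')))
        hπ
  | one => rw [map_one]; exact Commute.one_left _
  | mul x y hx' hy' hx hy =>
    have hcl : ∀ w ∈ Subgroup.closure {B | B ∈ gens (k + 1) F ∧ B.1 *ᵥ (e0 : Vs (k + 1) F) = e0},
        w.1 *ᵥ (e0 : Vs (k + 1) F) = e0 := by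
      intro w hw
      induction hw using Subgroup.closure_induction with
      | mem B hB => exact hB.2
      | one => exact sp_one_mulVec _
      | mul a b _ _ ha hb => rw [sp_mul_mulVec, hb, ha]
      | inv a _ ha => conv_lhs => rw [← ha, sp_inv_mulVec]
    rw [map_mul]; exact (hx (hcl x hx')).mul_left (hy (hcl y hy'))
  | inv x hx' hx =>
    rw [map_inv]
    refine (hx ?_).inv_left
    conv_lhs => rw [← hg, sp_mulVec_inv]

theorem exists_g (z : Vs (k + 1) F) :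
    ∃ g : Spg (k + 1) F, z ≠ 0 → g.1 *ᵥ lv 0 = z := by
  by_cases hz : z = 0
  · exact ⟨1, fun h => absurd hz h⟩
  · obtain ⟨g, hg⟩ := exists_move (lv_ne_zero (F := F) (0 : Fin (k + 1))) hz
    exact ⟨g, fun _ => hg⟩

open Classical in
/-- Lift of the short root elements. -/
noncomputable def x (z : Vs (k + 1) F) : Γ :=
  if z = 0 then 1 else D.ι (exists_g z).choose * D.mL 1 * (D.ι (exists_g z).choose)⁻¹

theorem x_zero : D.x 0 = 1 := by rw [x, if_pos rfl]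

theorem x_spec (g : Spg (k + 1) F) :
    D.x (g.1 *ᵥ lv 0) = D.ι g * D.mL 1 * (D.ι g)⁻¹ := by
  have hne : g.1 *ᵥ lv 0 ≠ 0 := sp_mulVec_ne_zero g (lv_ne_zero 0)
  rw [x, if_neg hne]
  set g' := (exists_g (g.1 *ᵥ lv 0)).choose
  have hg' : g'.1 *ᵥ lv 0 = g.1 *ᵥ lv 0 := (exists_g (g.1 *ᵥ lv 0)).choose_spec hne
  have hc := D.mL_commute_stab (g := g⁻¹ * g')
    (by rw [e0_eq, sp_mul_mulVec, hg', sp_inv_mulVec]) 1
  have h : D.ι g' = D.ι g * D.ι (g⁻¹ * g') := by rw [← map_mul, mul_inv_cancel_left]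
  rw [h, mul_assoc (D.ι g), hc.eq]
  group

theorem π_x (z : Vs (k + 1) F) : π (D.x z) = xU z := by
  by_cases hz : z = 0
  · rw [hz, x_zero, map_one, xU_zero]
  obtain ⟨g, hg⟩ := exists_move (lv_ne_zero (F := F) (0 : Fin (k + 1))) hz
  rw [← hg, x_spec, map_mul, map_mul, map_inv, D.hι, π_mL, one_smul, xU_conj]

theorem x_conj (g : Spg (k + 1) F) (z : Vs (k + 1) F) :
    D.ι g * D.x z * (D.ι g)⁻¹ = D.x (g.1 *ᵥ z) := by
  by_cases hz : z = 0
  · rw [hz, Matrix.mulVec_zero, x_zero]; group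
  obtain ⟨h, rfl⟩ := exists_move (lv_ne_zero (F := F) (0 : Fin (k + 1))) hz
  rw [← sp_mul_mulVec, x_spec, x_spec, map_mul]
  group

theorem ι_x (g : Spg (k + 1) F) (z : Vs (k + 1) F) :
    D.ι g * D.x z = D.x (g.1 *ᵥ z) * D.ι g := by rw [← x_conj]; group

theorem x_commute_zL (z : Vs (k + 1) F) (t : F) : Commute (D.x z) (D.zL t) := by
  by_cases hz : z = 0
  · rw [hz, x_zero]; exact Commute.one_left _
  obtain ⟨g, rfl⟩ := exists_move (lv_ne_zero (F := F) (0 : Fin (k + 1))) hz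
  rw [x_spec]
  exact ((D.ι_commute_S0 g (D.zL_mem t)).mul_left (D.mL_commute_zL 1 t)).mul_left
    (D.ι_commute_S0 g (D.zL_mem t)).inv_left

/-- The join containing the base computations. -/
abbrev base : Subgroup Γ := D.M 0 ⊔ D.S (Fin.succ 0)

theorem x_mem_base {c a : F} (h : c ≠ 0 ∨ a ≠ 0) : D.x (vec c 0 a) ∈ D.base := by
  obtain ⟨g, hg, hgv⟩ := exists_pair0_e0 (n := k) h
  rw [e0_eq] at hgv
  rw [← hgv, x_spec]
  have hg' : D.ι g ∈ D.base := Subgroup.mem_sup_right (D.hιS 0 g (inS_of_pair0 hg))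
  exact mul_mem (mul_mem hg' (Subgroup.mem_sup_left (D.mL_mem 1))) (inv_mem hg')

theorem x_lv (c : F) : D.x (c • lv 0) = D.mL c := by
  by_cases hc : c = 0
  · rw [hc, zero_smul, x_zero]
    exact D.amal.injMS 0 (Fin.succ 0) h01 (one_mem _) (Subgroup.mem_sup_left (D.mL_mem 0))
      (by rw [map_one, π_mL, zero_smul, xU_zero])
  · have h : c • (lv 0 : Vs (k + 1) F) = vec c 0 0 := by
      rw [← e0_eq, e0, vec_smul, mul_one, mul_zero, smul_zero]
    refine D.amal.injMS 0 (Fin.succ 0) h01 ?_ (Subgroup.mem_sup_left (D.mL_mem c))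
      (by rw [π_x, π_mL])
    rw [h]
    exact D.x_mem_base (Or.inl hc)

theorem mul_x_line (g : Spg (k + 1) F) (c : F) :
    D.x (g.1 *ᵥ lv 0) * D.x (g.1 *ᵥ (c • lv 0)) = D.x (g.1 *ᵥ ((1 + c) • lv 0)) := by
  have h : D.mL 1 * D.mL c = D.mL (1 + c) := by
    refine D.amal.injMS 0 0 h01
      (Subgroup.mem_sup_left (mul_mem (D.mL_mem _) (D.mL_mem _)))
      (Subgroup.mem_sup_left (D.mL_mem _)) ?_
    rw [map_mul, π_mL, π_mL, π_mL, xU_mul, sf_smul_left, sf_smul_right, sf_self, mul_zero,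
      mul_zero, zU, tv_zero, one_mul, add_smul]
  rw [← x_conj, ← x_conj, ← x_conj, x_lv, x_lv, ← h, ← one_smul F (lv 0), x_lv]
  group

theorem mul_x_hyp (g : Spg (k + 1) F) {a : F} (ha : a ≠ 0) :
    D.x (g.1 *ᵥ lv 0) * D.x (g.1 *ᵥ vec 0 0 a)
      = D.zL (sf (vec (0 : F) (0 : Vs k F) a) (lv 0)) * D.x (g.1 *ᵥ vec 1 0 a) := by
  have hb : D.x (lv 0) * D.x (vec 0 0 a)
      = D.zL (sf (vec (0 : F) (0 : Vs k F) a) (lv 0)) * D.x (vec 1 0 a) := by
    refine D.amal.injMS 0 (Fin.succ 0) h01 ?_ ?_ ?_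
    · refine mul_mem ?_ (D.x_mem_base (Or.inr ha))
      rw [← one_smul F (lv 0), x_lv]
      exact Subgroup.mem_sup_left (D.mL_mem 1)
    · exact mul_mem (Subgroup.mem_sup_left (D.zL_mem_M _)) (D.x_mem_base (Or.inl one_ne_zero))
    · rw [map_mul, map_mul, π_x, π_x, π_x, π_zL, xU_mul]
      congr 2
      rw [← e0_eq, e0, vec_add]; simp
  rw [← x_conj, ← x_conj, ← x_conj]
  calc D.ι g * D.x (lv 0) * (D.ι g)⁻¹ * (D.ι g * D.x (vec 0 0 a) * (D.ι g)⁻¹)
      = D.ι g * (D.x (lv 0) * D.x (vec 0 0 a)) * (D.ι g)⁻¹ := by group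
    _ = _ := by
      rw [hb, ← mul_assoc (D.ι g), (D.ι_commute_S0 g (D.zL_mem _)).eq]
      group

theorem mul_x_of_sf {z z' : Vs (k + 1) F} (h : sf z' z ≠ 0) :
    D.x z * D.x z' = D.zL (sf z' z) * D.x (z + z') := by
  have hz : z ≠ 0 := fun e => h (by rw [e, sf_zero_right])
  obtain ⟨g₀, hg₀⟩ := exists_move (lv_ne_zero (F := F) (0 : Fin (k + 1))) hz
  set w := (g₀⁻¹).1 *ᵥ z' with hw
  have hz' : g₀.1 *ᵥ w = z' := by rw [hw, sp_mulVec_inv]
  set a := w (.inr 0) with ha'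
  have ha : a ≠ 0 := by
    intro e
    apply h
    rw [← hg₀, ← hz', sf_sp, sf_lv, ← ha', e]
  set A : Spg (k + 1) F := zU (w (.inl 0) / a) * xU (a⁻¹ • mid w) with hA
  have hAe : A.1 *ᵥ lv 0 = (lv 0 : Vs (k + 1) F) := by
    rw [← e0_eq, e0, hA, sp_mul_mulVec, xU_vec, zU_vec, sf_swap, sf_zero_right]
    simp
  have hAw : A.1 *ᵥ vec 0 0 a = w := by
    rw [hA, sp_mul_mulVec, xU_vec, zU_vec, sf_swap, sf_zero_right]
    conv_rhs => rw [← vec_eta w]
    congr 1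
    · rw [neg_zero, add_zero, zero_add, div_mul_cancel₀ _ ha]
    · rw [smul_smul, mul_inv_cancel₀ ha, one_smul, zero_add]
  have key := D.mul_x_hyp (g₀ * A) ha
  simp only [sp_mul_mulVec g₀ A] at key
  rw [hAe, hAw, hg₀, hz'] at key
  rw [key]
  congr 2
  · rw [← sf_sp (g₀ * A), sp_mul_mulVec g₀ A, sp_mul_mulVec g₀ A, hAe, hAw, hg₀, hz']
  · have hv : (vec 1 0 a : Vs (k + 1) F) = lv 0 + vec 0 0 a := by
      rw [← e0_eq, e0, vec_add]; simp
    rw [hv, Matrix.mulVec_add, Matrix.mulVec_add, hAe, hAw, hg₀, hz']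

theorem mul_x_of_orth (horth : OrthBase π D.M D.ι) {z z' : Vs (k + 1) F} (hz : z ≠ 0) (h : sf z' z = 0)
    (hd : ∃ u, sf u z = 0 ∧ sf u z' ≠ 0) : D.x z * D.x z' = D.x (z + z') := by
  obtain ⟨g₀, hg₀⟩ := exists_move (lv_ne_zero (F := F) (0 : Fin (k + 1))) hz
  set w := (g₀⁻¹).1 *ᵥ z' with hw
  have hwz : g₀.1 *ᵥ w = z' := by rw [hw, sp_mulVec_inv]
  have hw0 : w (.inr 0) = 0 := by rw [← sf_lv w 0, ← sf_sp g₀, hwz, hg₀, h]
  set c := w (.inl 0)
  have hweq : w = vec c (mid w) 0 := by conv_lhs => rw [← vec_eta w, hw0]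
  have hy : mid w ≠ 0 := by
    intro hy
    obtain ⟨u, hu, hu'⟩ := hd
    refine hu' ?_
    have hwc : w = c • lv 0 := by
      rw [hweq, hy, ← e0_eq, e0, vec_smul, mul_one, mul_zero, smul_zero]
    rw [← hwz, hwc, Matrix.mulVec_smul, hg₀, sf_smul_right, hu, mul_zero]
  obtain ⟨k', rfl⟩ : ∃ k', k = k' + 1 := by
    cases k with
    | zero => exact absurd (funext fun x => Fin.elim0 (x.elim id id)) hy
    | succ k' => exact ⟨k', rfl⟩
  obtain ⟨g₁, hg₁⟩ := exists_move (lv_ne_zero (F := F) (0 : Fin (k' + 1))) hy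
  obtain ⟨v₀, hv₀⟩ := exists_sf_eq_one hy
  set g := g₀ * (xU ((-c) • v₀) * emb g₁)
  have hge : g.1 *ᵥ (lv 0 : Vs (k' + 1 + 1) F) = z := by
    rw [sp_mul_mulVec, sp_mul_mulVec, ← e0_eq, e0, emb_vec, Matrix.mulVec_zero, xU_vec, sf_swap,
      sf_zero_right]
    simp only [neg_zero, add_zero, zero_smul]
    rw [← e0, e0_eq, hg₀]
  have hgf : g.1 *ᵥ (lv ⟨1, by omega⟩ : Vs (k' + 1 + 1) F) = z' := by
    rw [show (⟨1, by omega⟩ : Fin (k' + 1 + 1)) = (0 : Fin (k' + 1)).succ from rfl, sp_mul_mulVec,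
      sp_mul_mulVec, ← em_lv, em, emb_vec, hg₁, xU_vec, ← hwz]
    congr 1
    conv_rhs => rw [hweq]
    congr 1
    · rw [zero_add, sf_smul_right, sf_swap, hv₀]; ring
    · rw [zero_smul, add_zero]
  obtain ⟨m, hm, a, b, hπ, ha, hb, e⟩ := horth (by omega)
  have hm1 : m = D.mL 1 := D.amal.injMM 0 0 h01 h01 (Subgroup.mem_sup_left hm)
    (Subgroup.mem_sup_left (D.mL_mem 1)) (by rw [hπ, π_mL, one_smul])
  have hx0 : D.x (lv 0) = D.mL 1 := by rw [← one_smul F (lv 0 : Vs (k' + 1 + 1) F), x_lv]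
  rw [hm1, ← x_spec, ← x_spec, ha, hb, ← hx0] at e
  rw [← hge, ← hgf, ← Matrix.mulVec_add, ← x_conj, ← x_conj, ← x_conj, ← e]
  group

theorem mul_x (z z' : Vs (k + 1) F) :
    D.x z * D.x z' = D.zL (sf z' z) * D.x (z + z') := by
  by_cases h : sf z' z ≠ 0
  · exact D.mul_x_of_sf h
  push_neg at h
  rw [h, zL_zero, one_mul]
  by_cases hz : z = 0
  · rw [hz, x_zero, one_mul, zero_add]
  by_cases hd : ∀ u, sf u z = 0 → sf u z' = 0
  · obtain ⟨c, hc⟩ : ∃ c : F, z' = c • z := ⟨_, eq_smul_of_orth hz hd⟩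
    obtain ⟨g, rfl⟩ := exists_move (lv_ne_zero (F := F) (0 : Fin (k + 1))) hz
    rw [hc, ← Matrix.mulVec_smul, mul_x_line, ← Matrix.mulVec_add, add_smul, one_smul]
  push_neg at hd
  rcases D.orth with ⟨β, hβ0, hβ1⟩ | horth
  case inr => exact D.mul_x_of_orth horth hz h hd
  obtain ⟨u₁, hu₁, hu₁'⟩ := hd
  obtain ⟨u₂, hu₂⟩ := exists_sf_eq_one hz
  obtain ⟨u, hu, hu'⟩ : ∃ u, sf u z = 1 ∧ sf u z' = β := by
    refine ⟨u₂ + ((β - sf u₂ z') / sf u₁ z') • u₁, ?_, ?_⟩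
    · rw [sf_add_left, sf_smul_left, hu₁, hu₂, mul_zero, add_zero]
    · rw [sf_add_left, sf_smul_left, div_mul_cancel₀ _ hu₁']; ring
  set d := z' - u with hd'
  have hz' : z' = u + d := by rw [hd']; abel
  have hud : sf u d = β := by
    rw [hd', sub_eq_add_neg, ← neg_one_smul F u, sf_add_right, sf_smul_right, sf_self, hu']; ring
  have hdu : sf d u = -β := by rw [sf_swap, hud]
  have hdz : sf d z = -1 := by
    rw [hd', sub_eq_add_neg, ← neg_one_smul F u, sf_add_left, sf_smul_left, h, hu]; ring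
  have h1 : sf u z ≠ 0 := by rw [hu]; exact one_ne_zero
  have h2 : sf d u ≠ 0 := by rw [hdu]; exact neg_ne_zero.2 hβ0
  have h3v : sf d (z + u) = -1 - β := by rw [sf_add_right, hdz, hdu]; ring
  have h3 : sf d (z + u) ≠ 0 := by
    rw [h3v]
    intro e
    exact hβ1 (by linear_combination -e)
  calc D.x z * D.x z'
      = D.x z * (D.zL (-sf d u) * (D.x u * D.x d)) := by
        rw [D.mul_x_of_sf h2, ← hz', ← mul_assoc (D.zL _), zL_mul, neg_add_cancel, zL_zero,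
          one_mul]
    _ = D.zL (-sf d u) * (D.x z * D.x u * D.x d) := by
        rw [← mul_assoc, (D.x_commute_zL z _).eq]; group
    _ = D.zL (-sf d u) * (D.zL (sf u z) * (D.zL (sf d (z + u)) * D.x (z + u + d))) := by
        rw [D.mul_x_of_sf h1, mul_assoc (D.zL (sf u z)), D.mul_x_of_sf h3]
    _ = D.x (z + z') := by
        rw [← mul_assoc (D.zL _), ← mul_assoc (D.zL _ * D.zL _), zL_mul, zL_mul,
          show -sf d u + sf u z + sf d (z + u) = 0 by rw [h3v, hdu, hu]; ring, zL_zero, one_mul,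
          hz', add_assoc]

end Ctx

end CfsgLib.Char.SpAmalgam
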