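import Cfsg.Agent.Lib.Char.SpAmalgam.Cosets

/-!
A slim amalgam over a symplectic group is the symplectic group.
-/

set_option autoImplicit false

namespace CfsgLib.Char.SpAmalgam

open Matrix CfsgLib.Sp

universe u w

variable {F : Type u} [Field F]

/-- The smaller group inside an amalgam. -/
def sub1 {n : ℕ} {Γ : Type w} [Group Γ] (S : Fin (n + 1) → Subgroup Γ) (M : ℕ → Subgroup Γ) :
    Subgroup Γ :=
  Subgroup.closure {x | (∃ j : Fin n, x ∈ S j.succ) ∨ ∃ i, i + 1 < n ∧ x ∈ M (i + 1)}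

theorem Amal.S_le_sub1 {n : ℕ} {Γ : Type w} [Group Γ] (S : Fin (n + 1) → Subgroup Γ)
    (M : ℕ → Subgroup Γ) (j : Fin n) : S j.succ ≤ sub1 S M :=
  fun _ hx => Subgroup.subset_closure (Or.inl ⟨j, hx⟩)

theorem Amal.M_le_sub1 {n : ℕ} {Γ : Type w} [Group Γ] (S : Fin (n + 1) → Subgroup Γ)
    (M : ℕ → Subgroup Γ) (i : ℕ) (hi : i + 1 < n) : M (i + 1) ≤ sub1 S M :=
  fun _ hx => Subgroup.subset_closure (Or.inr ⟨i, hi, hx⟩)

theorem Amal.π_sub1_le {n : ℕ} {Γ : Type w} [Group Γ] {π : Γ →* Spg (n + 1) F}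
    {S : Fin (n + 1) → Subgroup Γ} {M : ℕ → Subgroup Γ} (h : Amal (n + 1) π S M) :
    sub1 S M ≤ (emb : Spg n F →* Spg (n + 1) F).range.comap π := by
  refine (Subgroup.closure_le _).2 ?_
  rintro x (⟨j, hj⟩ | ⟨i, hi, hx⟩)
  · obtain ⟨B, -, hB⟩ := exists_emb_inS ((h.mapS _ _).2 (Subgroup.mem_map_of_mem π hj))
    exact ⟨B, hB⟩
  · obtain ⟨B, -, hB⟩ :=
      exists_emb_inM ((h.mapM _ (by omega) _).2 (Subgroup.mem_map_of_mem π hx))
    exact ⟨B, hB⟩

/-- The projection of the smaller group. -/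
noncomputable def proj1 {n : ℕ} {Γ : Type w} [Group Γ] {π : Γ →* Spg (n + 1) F}
    {S : Fin (n + 1) → Subgroup Γ} {M : ℕ → Subgroup Γ} (h : Amal (n + 1) π S M) :
    ↥(sub1 S M) →* Spg n F :=
  (MonoidHom.ofInjective emb_injective).symm.toMonoidHom.comp
    ((π.comp (sub1 S M).subtype).codRestrict (emb : Spg n F →* Spg (n + 1) F).range
      fun x => h.π_sub1_le x.2)

theorem emb_proj1 {n : ℕ} {Γ : Type w} [Group Γ] {π : Γ →* Spg (n + 1) F}
    {S : Fin (n + 1) → Subgroup Γ} {M : ℕ → Subgroup Γ} (h : Amal (n + 1) π S M)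
    (x : ↥(sub1 S M)) : emb (proj1 h x) = π x.1 := by
  have := congrArg Subtype.val ((MonoidHom.ofInjective emb_injective).apply_symm_apply
    ((π.comp (sub1 S M).subtype).codRestrict (emb : Spg n F →* Spg (n + 1) F).range
      (fun x => h.π_sub1_le x.2) x))
  rw [MonoidHom.ofInjective_apply] at this
  exact this

theorem Amal.sub {n : ℕ} {Γ : Type w} [Group Γ] {π : Γ →* Spg (n + 1) F}
    {S : Fin (n + 1) → Subgroup Γ} {M : ℕ → Subgroup Γ} (h : Amal (n + 1) π S M) :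
    Amal n (proj1 h) (fun j => (S j.succ).subgroupOf (sub1 S M))
      (fun i => (M (i + 1)).subgroupOf (sub1 S M)) := by
  have hinj : ∀ A B : Subgroup Γ, Set.InjOn π ↑(A ⊔ B) →
      Set.InjOn (proj1 h) ↑(A.subgroupOf (sub1 S M) ⊔ B.subgroupOf (sub1 S M)) := by
    intro A B hAB x hx y hy hxy
    have hle : A.subgroupOf (sub1 S M) ⊔ B.subgroupOf (sub1 S M) ≤
        (A ⊔ B).subgroupOf (sub1 S M) :=
      sup_le (fun _ hz => Subgroup.mem_sup_left (T := B) hz)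
        (fun _ hz => Subgroup.mem_sup_right (S := A) hz)
    refine Subtype.ext (hAB (hle hx) (hle hy) ?_)
    show π x.1 = π y.1
    rw [← emb_proj1 h x, hxy, emb_proj1 h y]
  refine ⟨fun j A => ?_, fun i hi A => ?_, fun j l => hinj _ _ (h.injSS _ _),
    fun i j hi => hinj _ _ (h.injMS _ _ (by omega)),
    fun i i' hi hi' => hinj _ _ (h.injMM _ _ (by omega) (by omega)), ?_⟩
  · constructor
    · intro hA
      obtain ⟨x, hx, hxA⟩ := Subgroup.mem_map.1 ((h.mapS _ _).1 (inS_emb.2 hA))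
      refine ⟨⟨x, Amal.S_le_sub1 S M j hx⟩, hx, emb_injective ?_⟩
      rw [emb_proj1, hxA]
    · rintro ⟨x, hx, rfl⟩
      refine inS_emb.1 ?_
      rw [emb_proj1]
      exact (h.mapS _ _).2 (Subgroup.mem_map_of_mem π hx)
  · constructor
    · intro hA
      obtain ⟨x, hx, hxA⟩ := Subgroup.mem_map.1 ((h.mapM _ (by omega) _).1 (inM_emb.2 hA))
      refine ⟨⟨x, Amal.M_le_sub1 S M i hi hx⟩, hx, emb_injective ?_⟩
      rw [emb_proj1, hxA]
    · rintro ⟨x, hx, rfl⟩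
      refine inM_emb.1 ?_
      rw [emb_proj1]
      exact (h.mapM _ (by omega) _).2 (Subgroup.mem_map_of_mem π hx)
  · exact Subgroup.closure_closure_coe_preimage

theorem Amal.surjective {n : ℕ} {Γ : Type w} [Group Γ] {π : Γ →* Spg n F}
    {S : Fin n → Subgroup Γ} {M : ℕ → Subgroup Γ} (h : Amal n π S M) :
    Function.Surjective π := by
  refine MonoidHom.range_eq_top.1 (eq_top_iff.2 ?_)
  rw [← closure_gens n, Subgroup.closure_le]
  rintro A (⟨j, hj⟩ | ⟨i, hi, hA⟩)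
  · obtain ⟨x, -, rfl⟩ := Subgroup.mem_map.1 ((h.mapS _ _).1 hj)
    exact ⟨x, rfl⟩
  · obtain ⟨x, -, rfl⟩ := Subgroup.mem_map.1 ((h.mapM _ hi _).1 hA)
    exact ⟨x, rfl⟩

/-- Orthogonal short root elements on three consecutive pairs multiply as in the symplectic group. -/
def Tri (n : ℕ) {Γ : Type w} [Group Γ] (π : Γ →* Spg n F) (S : Fin n → Subgroup Γ)
    (M : ℕ → Subgroup Γ) : Prop :=
  ∀ i, ∀ hi : i + 2 < n, ∃ m ∈ M i, ∃ a ∈ S ⟨i + 1, by omega⟩ ⊔ M (i + 1) ⊔ S ⟨i + 2, hi⟩,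
    ∃ b ∈ S ⟨i + 1, by omega⟩ ⊔ M (i + 1) ⊔ S ⟨i + 2, hi⟩,
      π m = kv (lv ⟨i, by omega⟩) (lv ⟨i + 1, by omega⟩) 1 ∧
      (π a).1 *ᵥ (lv ⟨i + 1, by omega⟩ : Vs n F) = lv ⟨i + 2, hi⟩ ∧
      (π b).1 *ᵥ (lv ⟨i + 1, by omega⟩ : Vs n F) = lv ⟨i + 1, by omega⟩ + lv ⟨i + 2, hi⟩ ∧
      m * (a * m * a⁻¹) = b * m * b⁻¹

theorem emb_kv {n : ℕ} (u v : Vs n F) (h : sf u v = 0) :
    emb (kv u v 1) = kv (em u) (em v) 1 := by
  refine sp_ext_coord fun c a y => ?_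
  rw [emb_vec, kv_mulVec _ _ h, kv_mulVec _ _ (by rw [em, sf_vec_em, h]), sf_vec_em, sf_vec_em, em, em,
    vec_smul, vec_smul, vec_add, vec_add]
  simp

theorem Tri.sub {n : ℕ} {Γ : Type w} [Group Γ] {π : Γ →* Spg (n + 1) F}
    {S : Fin (n + 1) → Subgroup Γ} {M : ℕ → Subgroup Γ} (h : Amal (n + 1) π S M)
    (ht : Tri (n + 1) π S M) :
    Tri n (proj1 h) (fun j => (S j.succ).subgroupOf (sub1 S M))
      (fun i => (M (i + 1)).subgroupOf (sub1 S M)) := by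
  intro i hi
  obtain ⟨m, hm, a, ha, b, hb, hπ, hav, hbv, e⟩ := ht (i + 1) (by omega)
  have hS1 : S ⟨i + 1 + 1, by omega⟩ ≤ sub1 S M := Amal.S_le_sub1 S M ⟨i + 1, by omega⟩
  have hS2 : S ⟨i + 1 + 2, by omega⟩ ≤ sub1 S M := Amal.S_le_sub1 S M ⟨i + 2, hi⟩
  have hM1 := Amal.M_le_sub1 S M (i + 1) (by omega)
  have hle : ∀ x ∈ S ⟨i + 1 + 1, by omega⟩ ⊔ M (i + 1 + 1) ⊔ S ⟨i + 1 + 2, by omega⟩, x ∈ sub1 S M :=
    fun x hx => (sup_le (sup_le hS1 hM1) hS2) hx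
  have hmem : ∀ x (hx : x ∈ S ⟨i + 1 + 1, by omega⟩ ⊔ M (i + 1 + 1) ⊔ S ⟨i + 1 + 2, by omega⟩),
      (⟨x, hle x hx⟩ : ↥(sub1 S M)) ∈ (S ⟨i + 1 + 1, by omega⟩).subgroupOf (sub1 S M) ⊔
        (M (i + 1 + 1)).subgroupOf (sub1 S M) ⊔ (S ⟨i + 1 + 2, by omega⟩).subgroupOf (sub1 S M) := by
    intro x hx
    rw [← Subgroup.subgroupOf_sup hS1 hM1, ← Subgroup.subgroupOf_sup (sup_le hS1 hM1) hS2]
    exact hx
  refine ⟨⟨m, Amal.M_le_sub1 S M i (by omega) hm⟩, hm, ⟨a, hle a ha⟩, hmem a ha, ⟨b, hle b hb⟩,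
    hmem b hb, emb_injective ?_, ?_, ?_, Subtype.ext e⟩
  · have h0 : sf (lv (⟨i, by omega⟩ : Fin n) : Vs n F) (lv ⟨i + 1, by omega⟩) = 0 := by
      rw [sf_lv]; simp
    rw [emb_proj1, emb_kv _ _ h0, em_lv, em_lv]
    exact hπ
  all_goals
    have hinj : Function.Injective (em : Vs n F → Vs (n + 1) F) := fun u v huv => (vec_inj huv).2.1
    refine hinj ?_
  · have e1 : em ((proj1 h ⟨a, hle a ha⟩).1 *ᵥ (lv ⟨i + 1, by omega⟩ : Vs n F)) =
        (π a).1 *ᵥ em (lv ⟨i + 1, by omega⟩) := by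
      rw [← emb_proj1 h ⟨a, hle a ha⟩, em, em, emb_vec]
    rw [e1, em_lv, em_lv]
    exact hav
  · have e1 : em ((proj1 h ⟨b, hle b hb⟩).1 *ᵥ (lv ⟨i + 1, by omega⟩ : Vs n F)) =
        (π b).1 *ᵥ em (lv ⟨i + 1, by omega⟩) := by
      rw [← emb_proj1 h ⟨b, hle b hb⟩, em, em, emb_vec]
    rw [e1, em_lv]
    rw [show em ((lv ⟨i + 1, by omega⟩ : Vs n F) + lv ⟨i + 2, hi⟩) =
      em (lv ⟨i + 1, by omega⟩) + em (lv ⟨i + 2, hi⟩) by rw [em, em, em, vec_add]; simp, em_lv, em_lv]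
    exact hbv

theorem Amal.bijective_of_tri :
    ∀ (n : ℕ) {Γ : Type w} [Group Γ] {π : Γ →* Spg n F}
      {S : Fin n → Subgroup Γ} {M : ℕ → Subgroup Γ}, Amal n π S M →
      ((∃ a : F, a ≠ 0 ∧ a ≠ 1) ∨ Tri n π S M) → Function.Bijective π := by
  intro n
  induction n with
  | zero =>
    intro Γ _ π S M h _
    refine ⟨fun x y _ => ?_, h.surjective⟩
    have hle : (⊤ : Subgroup Γ) ≤ ⊥ := by
      rw [← h.gen, Subgroup.closure_le]
      rintro z (⟨j, -⟩ | ⟨i, hi, -⟩)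
      · exact Fin.elim0 j
      · exact absurd hi (by omega)
    have hx := hle (Subgroup.mem_top x)
    have hy := hle (Subgroup.mem_top y)
    rw [Subgroup.mem_bot] at hx hy
    rw [hx, hy]
  | succ n ih =>
    intro Γ _ π S M h hF
    refine ⟨?_, h.surjective⟩
    cases n with
    | zero =>
      have hle : (⊤ : Subgroup Γ) ≤ S 0 ⊔ S 0 := by
        rw [← h.gen, Subgroup.closure_le]
        rintro z (⟨j, hj⟩ | ⟨i, hi, -⟩)
        · obtain rfl := Fin.fin_one_eq_zero j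
          exact Subgroup.mem_sup_left hj
        · exact absurd hi (by omega)
      exact fun x y hxy => h.injSS 0 0 (hle (Subgroup.mem_top x)) (hle (Subgroup.mem_top y)) hxy
    | succ k =>
      have hb := ih h.sub (hF.imp id (Tri.sub h))
      let e : ↥(sub1 S M) ≃* Spg (k + 1) F := MulEquiv.ofBijective (proj1 h) hb
      let ι : Spg (k + 1) F →* Γ := (sub1 S M).subtype.comp e.symm.toMonoidHom
      have hι : ∀ B, π (ι B) = emb B := fun B => by
        show π (e.symm B).1 = emb B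
        rw [← emb_proj1 h]
        exact congrArg emb (e.apply_symm_apply B)
      have hback : ∀ (x : Γ) (hx : x ∈ sub1 S M), ι (proj1 h ⟨x, hx⟩) = x := fun x hx => by
        show (e.symm (e ⟨x, hx⟩)).1 = x
        rw [e.symm_apply_apply]
      have horth : (∃ β : F, β ≠ 0 ∧ β ≠ -1) ∨ OrthBase π M ι := by
        rcases hF with ⟨a, ha0, ha1⟩ | ht
        · exact Or.inl ⟨-a, neg_ne_zero.2 ha0, fun e => ha1 (neg_injective e)⟩
        refine Or.inr fun hk => ?_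
        obtain ⟨m, hm, a, ha, b, hb', hπ, hav, hbv, e'⟩ := ht 0 (by omega)
        have hle : ∀ x ∈ S ⟨0 + 1, by omega⟩ ⊔ M (0 + 1) ⊔ S ⟨0 + 2, by omega⟩, x ∈ sub1 S M :=
          fun x hx => (sup_le (sup_le (Amal.S_le_sub1 S M ⟨0, by omega⟩) (Amal.M_le_sub1 S M 0 (by omega)))
            (Amal.S_le_sub1 S M ⟨1, by omega⟩)) hx
        have hinj : Function.Injective (em : Vs (k + 1) F → Vs (k + 1 + 1) F) := fun u v huv =>
          (vec_inj huv).2.1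
        refine ⟨m, hm, proj1 h ⟨a, hle a ha⟩, proj1 h ⟨b, hle b hb'⟩, ?_, hinj ?_, hinj ?_, ?_⟩
        · rw [xU, em_lv, e0_eq]; exact hπ
        · rw [show em ((proj1 h ⟨a, hle a ha⟩).1 *ᵥ (lv 0 : Vs (k + 1) F)) = (π a).1 *ᵥ em (lv 0) by
            rw [← emb_proj1 h ⟨a, hle a ha⟩, em, em, emb_vec], em_lv, em_lv]
          exact hav
        · rw [show em ((proj1 h ⟨b, hle b hb'⟩).1 *ᵥ (lv 0 : Vs (k + 1) F)) = (π b).1 *ᵥ em (lv 0) by
            rw [← emb_proj1 h ⟨b, hle b hb'⟩, em, em, emb_vec],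
            show em ((lv 0 : Vs (k + 1) F) + lv ⟨1, by omega⟩) = em (lv 0) + em (lv ⟨1, by omega⟩) by
              rw [em, em, em, vec_add]; simp, em_lv, em_lv]
          exact hbv
        · rw [hback a (hle a ha), hback b (hle b hb')]; exact e'
      refine Ctx.injective
        { S := S, M := M, amal := h, ι := ι, orth := horth, hι := hι
          hιS := fun j B hB => ?_
          hιM := fun i B hi hB => ?_
          hSι := fun j x hx => ⟨_, hback x (Amal.S_le_sub1 S M j hx)⟩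
          hMι := fun i x hi hx => ⟨_, hback x (Amal.M_le_sub1 S M i hi hx)⟩ }
      · obtain ⟨x, hx, hxA⟩ := Subgroup.mem_map.1 ((h.sub.mapS j B).1 hB)
        rw [← hxA, hback x.1 x.2]
        exact hx
      · obtain ⟨x, hx, hxA⟩ := Subgroup.mem_map.1 ((h.sub.mapM i hi B).1 hB)
        rw [← hxA, hback x.1 x.2]
        exact hx

/-- A slim amalgam over a field with more than two elements is the symplectic group. -/
theorem Amal.bijective (hF : ∃ a : F, a ≠ 0 ∧ a ≠ 1) (n : ℕ) {Γ : Type w} [Group Γ] {π : Γ →* Spg n F}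
    {S : Fin n → Subgroup Γ} {M : ℕ → Subgroup Γ} (h : Amal n π S M) : Function.Bijective π :=
  Amal.bijective_of_tri n h (Or.inl hF)

end CfsgLib.Char.SpAmalgam
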